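import Cfsg.Agent.ClassicalMax.OWreath.Two.Rigid

/-!
Characteristic two: two involutions of smallest rank, one a slot root element, are conjugate in their dihedral group;
hence every involution of smallest rank is a slot root element, and either the group contains the root elements of the
planes of pure tensors or it lies in the standard wreath product.
-/

set_option autoImplicit false
set_option linter.unusedSectionVars false
set_option linter.style.haveILetI false

namespace Cfsg.Agent.ClassicalMax.OWreath.Two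

open Matrix Cfsg.Geo Cfsg.Agent.ClassicalMax.TPow
open Cfsg.Agent.ClassicalMax.LWreath (Rst at1_inj at1 inL outL ext outL_inL inL_outL inL_mul_outL fu InH rs)
open Cfsg.Agent.ClassicalMax.SpWreath (GV GV_det)

variable {F : Type*} [Field F] [Finite F] {k t : ℕ} {J : Matrix (Fin k) (Fin k) F}
  {H : Subgroup (GL (Fin t → Fin k) F)} {i l : Fin t} {T : Finset (Fin t)}

theorem Small.conj {x : GL (Fin t → Fin k) F} (hx : Small J H T x) {d : GL (Fin t → Fin k) F}
    (hd : d ∈ H ⊓ cenG T) : Small J H T (d * x * d⁻¹) where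
  mem := mul_mem (mul_mem (Subgroup.mem_inf.1 hd).1 hx.mem) (inv_mem (Subgroup.mem_inf.1 hd).1)
  sq := by rw [show d * x * d⁻¹ * (d * x * d⁻¹) = d * (x * x) * d⁻¹ by group, hx.sq, mul_one, mul_inv_cancel]
  cen := (cenG T).mul_mem ((cenG T).mul_mem (Subgroup.mem_inf.1 hd).2 hx.cen)
    ((cenG T).inv_mem (Subgroup.mem_inf.1 hd).2)
  rank := by rw [rank_conj]; exact hx.rank

theorem closure_le_sub {x y : GL (Fin t → Fin k) F} (hx : x ∈ H ⊓ cenG T) (hy : y ∈ H ⊓ cenG T)
    {d : GL (Fin t → Fin k) F} (hd : d ∈ Subgroup.closure ({x, y} : Set (GL (Fin t → Fin k) F))) : d ∈ H ⊓ cenG T :=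
  (Subgroup.closure_le _).2 (by rintro g (rfl | rfl) <;> assumption) hd

theorem Small.sub {x : GL (Fin t → Fin k) F} (hx : Small J H T x) : x ∈ H ⊓ cenG T :=
  Subgroup.mem_inf.2 ⟨hx.mem, hx.cen⟩

namespace Setting

variable (hS : Setting J H) (hR : Rigid J H) (IH : ∀ i, i ∉ T → ∀ y, Small J H (insert i T) y → Slot J y)
include hS hR IH

/-- no involution of smallest rank exchanges roots of two slots -/
theorem cross (hi : i ∉ T) (hl : l ∉ T) (hli : l ≠ i) {u c : Fin k → F} (hu : u ≠ 0) (hc : c ≠ 0)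
    {r : GL (Fin t → Fin k) F} (hr : Small J H T r) (hsw : r * hS.rt i u * r = hS.rt l c) : False := by
  have hri : r⁻¹ = r := inv_eq_of_mul_eq_one_right hr.sq
  have hrr : ∀ a b, r * (a * b) * r = r * a * r * (r * b * r) := fun a b => by
    rw [show r * a * r * (r * b * r) = r * a * (r * r) * b * r by simp only [mul_assoc], hr.sq, mul_one]
    simp only [mul_assoc]
  have himg : ∀ a, a ≠ 0 → bf J u a = 0 → (∀ s : F, a ≠ s • u) →
      ∃ N : Matrix (Rst k i) (Rst k i) F,
        ((r * hS.rt i a * r : GL (Fin t → Fin k) F) : Matrix (Fin t → Fin k) (Fin t → Fin k) F) = ext i N := by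
    intro a ha hua ha'
    have hsm : Small J H T (r * hS.rt i a * r) := by
      have h := (hS.small_rt hi ha).conj hr.sub
      rwa [hri] at h
    have hcomm : Commute (r * hS.rt i a * r) (hS.rt l c) := by
      rw [← hsw]
      show _ = _
      rw [← hrr, ← hrr, ((hS.rt_commute_iff i u a).2 hua).eq]
    obtain ⟨n, p, -, hp, e⟩ := hS.rt_of_slot hsm (hS.slot_of_commute hR IH hl hsm hc hcomm)
    rw [e]
    refine hS.outer_rt (fun hni => ?_) p
    have h1 : (nl (hS.rt l c * hS.rt i p)).rank = (nl (hS.rt i u * hS.rt i a)).rank := by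
      rw [← hsw, show hS.rt i p = r * hS.rt i a * r by rw [e, hni], ← hrr]
      nth_rewrite 2 [← hri]
      rw [rank_conj]
    have h2 := hS.two_slots_lt hli hc hp
    have h3 := hS.pair_rank_ge (i := i) hu hua ha'
    omega
  obtain ⟨a₁, hua₁, ha₁⟩ := hS.exists_perp_indep (u := u)
  have ha₁0 : a₁ ≠ 0 := fun e => ha₁ 0 (by rw [e, zero_smul])
  obtain ⟨a₂, ha₂0, hua₂, ha₁₂, ha₂, hblock⟩ := hS.triple_ext_ge (i := i) hu hua₁ ha₁
  obtain ⟨N₁, e₁⟩ := himg a₁ ha₁0 hua₁ ha₁
  obtain ⟨N₂, e₂⟩ := himg a₂ ha₂0 hua₂ ha₂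
  obtain ⟨N₀, e₀⟩ := hS.outer_rt (i := i) hli c
  set x₃ := hS.rt i u * hS.rt i a₁ * hS.rt i a₂ with hx₃
  set y₃ := r * x₃ * r with hy₃
  have ey : (y₃ : Matrix (Fin t → Fin k) (Fin t → Fin k) F) = ext i (N₀ * N₁ * N₂) := by
    rw [hy₃, hx₃, hrr, hrr, hsw, Units.val_mul, Units.val_mul, e₀, e₁, e₂, LWreath.ext_mul, LWreath.ext_mul]
  have hxx : x₃ * x₃ = 1 := by
    rw [hx₃]
    have h01 : Commute (hS.rt i u) (hS.rt i a₁) := (hS.rt_commute_iff i u a₁).2 hua₁
    have h2c : Commute (hS.rt i u * hS.rt i a₁) (hS.rt i a₂) :=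
      ((hS.rt_commute_iff i u a₂).2 hua₂).mul_left ((hS.rt_commute_iff i a₁ a₂).2 ha₁₂)
    rw [h2c.symm.mul_mul_mul_comm, h01.symm.mul_mul_mul_comm, hS.rt_sq, hS.rt_sq, hS.rt_sq, mul_one, mul_one]
  have hyy : y₃ * y₃ = 1 := by rw [hy₃, ← hrr, hxx, mul_one, hr.sq]
  have h3 := hblock hyy ey
  have h4 : (nl (x₃ * y₃)).rank ≤ 2 * NN k t := by
    have e : x₃ * y₃ = x₃ * r * x₃⁻¹ * r := by
      rw [hy₃, inv_eq_of_mul_eq_one_right hxx]
      simp only [mul_assoc]
    rw [e]
    refine (rank_nl_mul hS.two _ _).trans ?_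
    rw [rank_conj, hr.rank, two_mul]
  have := hS.nn_pos
  omega

/-- the dihedral group of a slot root and another involution of smallest rank has no central involution -/
theorem conj_of_pair (hi : i ∉ T) {u : Fin k → F} (hu : u ≠ 0) {y : GL (Fin t → Fin k) F} (hy : Small J H T y)
    (hns : ¬ Slot J y) :
    ∃ d ∈ Subgroup.closure ({hS.rt i u, y} : Set (GL (Fin t → Fin k) F)), d * hS.rt i u * d⁻¹ = y := by
  set x := hS.rt i u with hx
  have hxs : Small J H T x := hS.small_rt hi hu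
  rcases dihedral_cases hxs.sq hy.sq with h | ⟨ζ, hζK, hζ1, hζζ, hζx, hζy, hcase⟩
  · exact h
  exfalso
  have hsub : ∀ d ∈ Subgroup.closure ({x, y} : Set (GL (Fin t → Fin k) F)), d ∈ H ⊓ cenG T :=
    fun d hd => closure_le_sub hxs.sub hy.sub hd
  have hζs := Subgroup.mem_inf.1 (hsub ζ hζK)
  set w := x * ζ with hw
  have hwsm : Small J H T w := by
    rcases hcase with ⟨h, hh, -, -, e⟩ | ⟨⟨r, hrK, hrr, e, -⟩, -⟩
    · have h1 := hy.conj (inv_mem (hsub h hh))
      rw [← e] at h1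
      simpa [mul_assoc] using h1
    · have h1 := hxs.conj (hsub r hrK)
      rwa [inv_eq_of_mul_eq_one_right hrr, e] at h1
  have hwx : Commute w (hS.rt i u) := (Commute.refl x).mul_left hζx
  obtain ⟨l, c, hl, hc, ew⟩ := hS.rt_of_slot hwsm (hS.slot_of_commute hR IH hi hwsm hu hwx)
  have hζeq : ζ = x * w := by rw [hw, ← mul_assoc, hxs.sq, one_mul]
  by_cases hli : l = i
  · refine hns (hS.slot_of_single hR IH hi hy hζs.1 hζζ hζ1 (S := rk J u u + rk J c c) ?_ hζy.symm)
    subst hli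
    rw [hζeq, ew]
    refine hS.pair_val ?_
    rw [ew] at hwx
    exact (hS.rt_commute_iff _ u c).1 hwx.symm
  rcases hcase with ⟨h, hh, hhζ, hxhx, e⟩ | ⟨⟨r, hrK, hrr, e, d, hd, hrd⟩, -⟩
  swap
  · refine hS.cross hR IH hi hl hli hu hc ?_ (e.trans ew)
    rcases hrd with rfl | rfl
    · exact hxs.conj (hsub d hd)
    · exact hy.conj (hsub d hd)
  set x₁ := h⁻¹ * x * h with hx₁
  have hx₁s : Small J H T x₁ := by
    have h1 := hxs.conj (inv_mem (hsub h hh))
    rwa [inv_inv] at h1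
  have hhx : x * h = h⁻¹ * x := by rw [← hxhx, mul_assoc _ x x, hxs.sq, mul_one]
  have hζx₁ : Commute ζ x₁ := ((hhζ.symm.inv_right).mul_right hζx).mul_right hhζ.symm
  have hrank₁ : (nl (ζ * x₁)).rank = NN k t := by
    have e1 : ζ * x₁ = h⁻¹ * w * h⁻¹⁻¹ := by
      rw [hx₁, hw, inv_inv, hζx.symm.eq, ← mul_assoc, ← mul_assoc, ← mul_assoc, (hhζ.symm.inv_right).eq]
    rw [e1, rank_conj, hwsm.rank]
  by_cases hs₁ : Slot J x₁
  · obtain ⟨n, p, -, -, e₁⟩ := hS.rt_of_slot hx₁s hs₁
    have hcx : Commute x x₁ := by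
      by_cases hni : n = i
      · have h1 : Commute w x₁ := by
          rw [ew, e₁, hni]
          exact hS.rt_commute_ne hli _ _
        rw [show x = ζ * w by rw [hw, ← mul_assoc, hζx.eq, mul_assoc, hζζ, mul_one]]
        exact hζx₁.mul_left h1
      · rw [e₁]
        exact hS.rt_commute_ne (Ne.symm hni) _ _
    have hxi' : x * h⁻¹ * x = h := by
      rw [← hxhx, show x * (x * h * x) * x = x * x * h * (x * x) by simp only [mul_assoc], hxs.sq, one_mul, mul_one]
    have h4 : h * h = h⁻¹ * h⁻¹ := calc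
      h * h = x * h⁻¹ * x * h := by rw [hxi']
      _ = x * x₁ := by rw [hx₁]; simp only [mul_assoc]
      _ = x₁ * x := hcx.eq
      _ = h⁻¹ * (x * h * x) := by rw [hx₁]; simp only [mul_assoc]
      _ = h⁻¹ * h⁻¹ := by rw [hxhx]
    have hyx : Commute y x := by
      have ey : y = h * h * x * ζ := calc
        y = h * (x * ζ) * h⁻¹ := e.symm
        _ = h * x * (ζ * h⁻¹) := by simp only [mul_assoc]
        _ = h * x * (h⁻¹ * ζ) := by rw [hhζ.symm.inv_right.eq]
        _ = h * (x * h⁻¹ * x) * (x * ζ) := by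
          rw [show h * (x * h⁻¹ * x) * (x * ζ) = h * x * h⁻¹ * (x * x) * ζ by simp only [mul_assoc], hxs.sq, mul_one]
          simp only [mul_assoc]
        _ = h * h * x * ζ := by rw [hxi']; simp only [mul_assoc]
      have hx2 : x * (h * h) * x = h⁻¹ * h⁻¹ := by
        rw [← hxhx, show x * h * x * (x * h * x) = x * h * (x * x) * h * x by simp only [mul_assoc], hxs.sq, mul_one]
        simp only [mul_assoc]
      show y * x = x * y
      rw [ey, mul_assoc _ ζ x, hζx.eq, ← mul_assoc, mul_assoc _ x x, hxs.sq, mul_one,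
        show x * (h * h * x * ζ) = x * (h * h) * x * ζ by simp only [mul_assoc], hx2, ← h4]
    exact hns (hS.slot_of_commute hR IH hi hy hu hyx)
  obtain ⟨a, hua, ha⟩ := hS.exists_perp_indep (u := u)
  have ha0 : a ≠ 0 := fun e => ha 0 (by rw [e, zero_smul])
  set xa := hS.rt i a with hxa
  have hxas : Small J H T xa := hS.small_rt hi ha0
  have hxxa : Commute x xa := (hS.rt_commute_iff i u a).2 hua
  have hwxa : Commute w xa := by rw [ew]; exact hS.rt_commute_ne hli _ _
  have hζxa : Commute ζ xa := by rw [hζeq]; exact hxxa.mul_left hwxa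
  obtain ⟨N₀, e₀⟩ := hS.outer_rt (i := i) hli c
  rw [← ew] at e₀
  rcases dihedral_cases hxas.sq hx₁s.sq with ⟨d, hd, ed⟩ | ⟨ζ', hζ'K, hζ'1, hζ'ζ', hζ'x, hζ'y, hcase'⟩
  · have hdζ : Commute ζ d := commute_of_closure hd hζxa hζx₁
    have e1 : ζ * x₁ = d * (x * xa * w) * d⁻¹ := by
      rw [← ed, ← mul_assoc, ← mul_assoc, hdζ.eq, mul_assoc x, hwxa.symm.eq, ← mul_assoc x, ← hζeq, mul_assoc d ζ]
    rw [e1, rank_conj] at hrank₁
    have h2 := hS.pair_ext_ge (i := i) hu hua ha hwsm.sq e₀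
    rw [← hxa, ← hx] at h2
    have := hS.nn_pos
    omega
  have hsub' : ∀ d ∈ Subgroup.closure ({xa, x₁} : Set (GL (Fin t → Fin k) F)), d ∈ H ⊓ cenG T :=
    fun d hd => closure_le_sub hxas.sub hx₁s.sub hd
  set w' := xa * ζ' with hw'
  have hw's : Small J H T w' := by
    rcases hcase' with ⟨g, hg, -, -, e'⟩ | ⟨⟨r, hrK, hrr, e', -⟩, -⟩
    · have h1 := hx₁s.conj (inv_mem (hsub' g hg))
      rw [← e'] at h1
      simpa [mul_assoc] using h1
    · have h1 := hxas.conj (hsub' r hrK)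
      rwa [inv_eq_of_mul_eq_one_right hrr, e'] at h1
  have hw'x : Commute w' (hS.rt i a) := (Commute.refl xa).mul_left hζ'x
  obtain ⟨n, p, hn, hp, ew'⟩ := hS.rt_of_slot hw's (hS.slot_of_commute hR IH hi hw's ha0 hw'x)
  have hζ'eq : ζ' = xa * w' := by rw [hw', ← mul_assoc, hxas.sq, one_mul]
  have hζ's := Subgroup.mem_inf.1 (hsub' ζ' hζ'K)
  by_cases hni : n = i
  · refine hs₁ (hS.slot_of_single hR IH hi hx₁s hζ's.1 hζ'ζ' hζ'1 (S := rk J a a + rk J p p) ?_ hζ'y.symm)
    subst hni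
    rw [hζ'eq, ew']
    refine hS.pair_val ?_
    rw [ew'] at hw'x
    exact (hS.rt_commute_iff _ a p).1 hw'x.symm
  rcases hcase' with ⟨g, hg, -, -, e'⟩ | ⟨⟨r, hrK, hrr, e', d, hd, hrd⟩, -⟩
  swap
  · refine hS.cross hR IH hi hn hni ha0 hp ?_ (e'.trans ew')
    rcases hrd with rfl | rfl
    · exact hxas.conj (hsub' d hd)
    · exact hx₁s.conj (hsub' d hd)
  have hζg : Commute ζ g := commute_of_closure hg hζxa hζx₁
  obtain ⟨N₁, e₁⟩ := hS.outer_rt (i := i) hni p
  rw [← ew'] at e₁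
  have eww : ((w * w' : GL (Fin t → Fin k) F) : Matrix (Fin t → Fin k) (Fin t → Fin k) F) = ext i (N₀ * N₁) := by
    rw [Units.val_mul, e₀, e₁, LWreath.ext_mul]
  have hrank₂ : (nl (x * (w * w'))).rank = NN k t := by
    rw [← mul_assoc, ← hζeq, ← rank_conj g, show g * (ζ * w') * g⁻¹ = ζ * x₁ by
      rw [← e', hw', ← mul_assoc g, ← hζg.eq]
      simp only [mul_assoc], hrank₁]
  have hN : N₀ * N₁ + 1 = 0 := by
    by_contra hne
    have hu₀ := (hS.outer_inv hwsm.sq e₀).1
    have hu₁ := (hS.outer_inv hw's.sq e₁).1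
    have h1 := hS.root_ext_gt (i := i) hu (hu₀.mul hu₁) hne
    rw [← nl_outer hS (hS.rt_val i u) eww, ← hx, hrank₂] at h1
    exact lt_irrefl _ h1
  have hww : w * w' = 1 := Units.ext (by
    rw [eww, eq_neg_of_add_eq_zero_left hN, neg_self hS.two, LWreath.ext_one, Units.val_one])
  have hw'w : w' = w := by
    rw [← inv_eq_of_mul_eq_one_right hww, inv_eq_of_mul_eq_one_right hwsm.sq]
  have hωeq : ζ * ζ' = x * xa := by
    rw [hζeq, hζ'eq, hw'w, show x * w * (xa * w) = x * (w * xa) * w by simp only [mul_assoc], hwxa.eq,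
      show x * (xa * w) * w = x * xa * (w * w) by simp only [mul_assoc], hwsm.sq, mul_one]
  have hne : x * xa ≠ 1 := fun e1 => ha 1 (by
    rw [one_smul]
    have h2 : xa = x := by rw [← inv_eq_of_mul_eq_one_right e1, inv_eq_of_mul_eq_one_right hxs.sq]
    exact hS.rt_inj ha0 h2)
  refine hs₁ (hS.slot_of_single hR IH hi hx₁s (mul_mem hxs.mem hxas.mem)
    (by rw [hxxa.symm.mul_mul_mul_comm, hxs.sq, hxas.sq, mul_one]) hne (hS.pair_val hua) ?_)
  rw [← hωeq]
  exact hζx₁.symm.mul_right hζ'y.symm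

/-- every involution of smallest rank is a slot root element -/
theorem slot_step (hi : i ∉ T) {y : GL (Fin t → Fin k) F} (hy : Small J H T y) : Slot J y := by
  by_contra hns
  have hN := hS.nn_pos
  obtain ⟨u, hu⟩ : ∃ u : Fin k → F, u ≠ 0 := ⟨Pi.single ⟨0, by have := hS.dim; omega⟩ 1, by simp⟩
  obtain ⟨v, huv, hv⟩ := hS.exists_perp_indep (u := u)
  have hv0 : v ≠ 0 := fun e => hv 0 (by rw [e, zero_smul])
  set xu := hS.rt i u with hxu
  set xv := hS.rt i v with hxv
  set z := xu * xv with hz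
  have hzs : z ∈ H ⊓ cenG T := mul_mem (hS.small_rt hi hu).sub (hS.small_rt hi hv0).sub
  have hzz : z * z = 1 := by
    rw [hz, (((hS.rt_commute_iff i u v).2 huv).symm).mul_mul_mul_comm, hS.rt_sq, hS.rt_sq, mul_one]
  have hzge : 2 * NN k t ≤ (nl z).rank := hS.pair_rank_ge hu huv hv
  have hzle : (nl z).rank ≤ 2 * NN k t := by
    refine (rank_nl_mul hS.two _ _).trans ?_
    rw [hS.rank_nl_rt i hu, hS.rank_nl_rt i hv0, two_mul]
  have ezv : (z : Matrix (Fin t → Fin k) (Fin t → Fin k) F) = 1 + sl i (rk J u u + rk J v v) := hS.pair_val huv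
  rcases dihedral_cases hzz hy.sq with ⟨d, -, ed⟩ | ⟨η, hηK, hη1, hηη, hηz, hηy, hcase⟩
  · have := rank_eq_of_conj ed
    rw [hy.rank] at this
    omega
  have hsub : ∀ d ∈ Subgroup.closure ({z, y} : Set (GL (Fin t → Fin k) F)), d ∈ H ⊓ cenG T :=
    fun d hd => closure_le_sub hzs hy.sub hd
  have hηs := Subgroup.mem_inf.1 (hsub η hηK)
  -- a root element commuting with the central involution
  have hrankη : ∀ {b : Fin k → F}, b ≠ 0 → Commute η (hS.rt i b) →
      (nl (η * hS.rt i b)).rank = (nl (η * y)).rank := fun {b} hb hcb => by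
    obtain ⟨d, hd, ed⟩ := hS.conj_of_pair hR IH hi hb hy hns
    have hdη := commute_of_closure hd hcb hηy
    conv_rhs => rw [← ed, ← mul_assoc, ← mul_assoc, hdη.eq, mul_assoc d η, rank_conj]
  rcases hcase with ⟨h, hh, hhη, -, e⟩ | ⟨-, d, hd, ed⟩
  · set x₀ := z * η with hx₀
    have hx₀s : Small J H T x₀ := by
      have h1 := hy.conj (inv_mem (hsub h hh))
      rw [← e] at h1
      simpa [mul_assoc] using h1
    have hz1 : z ≠ 1 := fun e1 => by
      rw [e1, nl, Units.val_one, dbl hS.two, rank_zero] at hzge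
      omega
    have hx₀z : Commute x₀ z := (Commute.refl z).mul_left hηz
    obtain ⟨l, c, hl, hc, ex⟩ := hS.rt_of_slot hx₀s (hS.slot_of_single hR IH hi hx₀s (Subgroup.mem_inf.1 hzs).1 hzz
      hz1 ezv hx₀z)
    have hηeq : η = z * x₀ := by rw [hx₀, ← mul_assoc, hzz, one_mul]
    by_cases hli : l = i
    · subst hli
      refine hns (hS.slot_of_single hR IH hi hy hηs.1 hηη hη1
        (S := rk J u u + rk J v v + rk J c c + (rk J u u + rk J v v) * rk J c c) ?_ hηy.symm)
      rw [hηeq, ex, Units.val_mul, ezv, hS.rt_val]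
      simp only [sl_add, ← sl_mul, mul_add, add_mul, one_mul, mul_one]
      abel
    obtain ⟨b, hb0, hub, hvb, -, hblock⟩ := hS.triple_ext_ge (i := i) hu huv hv
    have hcb : Commute η (hS.rt i b) := by
      rw [hηeq, ex, hz]
      exact (((hS.rt_commute_iff i u b).2 hub).mul_left ((hS.rt_commute_iff i v b).2 hvb)).mul_left
        (hS.rt_commute_ne hli _ _)
    obtain ⟨N, eN⟩ := hS.outer_rt (i := i) hli c
    rw [← ex] at eN
    have h3 := hblock hx₀s.sq eN
    have hzy : (nl (η * y)).rank = (nl z).rank := by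
      rw [← rank_conj h z]
      congr 2
      rw [← e, show η * (h * (z * η) * h⁻¹) = η * h * z * η * h⁻¹ by simp only [mul_assoc], hhη.symm.eq,
        show h * η * z * η * h⁻¹ = h * (η * z) * η * h⁻¹ by simp only [mul_assoc], hηz.eq,
        show h * (z * η) * η * h⁻¹ = h * z * (η * η) * h⁻¹ by simp only [mul_assoc], hηη, mul_one]
    have h4 := hrankη hb0 hcb
    have h5 : η * hS.rt i b = xu * xv * hS.rt i b * x₀ := by
      have hbx : Commute x₀ (hS.rt i b) := by rw [ex]; exact hS.rt_commute_ne hli _ _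
      rw [hηeq, hz, mul_assoc _ x₀, hbx.eq, ← mul_assoc]
    rw [h5, hzy] at h4
    have h6 : 3 * NN k t ≤ (nl (xu * xv * hS.rt i b * x₀)).rank := h3
    omega
  have hηy' : (nl (η * y)).rank = NN k t := by
    rw [hηy.eq, ← ed, rank_conj, hy.rank]
  obtain ⟨a, ha0, hca⟩ := hS.exists_fixed hR IH hi hηs.1 hηη hηs.2
    (S := rk J u u + rk J v v) (by
      simp only [mul_add, add_mul, rk_mul_rk, hS.alt, huv, hS.swap v u, zero_smul, add_zero])
    (fun e0 => by
      have h0 : nl z = 0 := by rw [nl_of_eq hS.two ezv, e0, sl_zero]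
      rw [h0, rank_zero] at hzge
      omega)
    (by
      have e : ∀ A B : Matrix (Fin k) (Fin k) F, adjJ J (A + B) = adjJ J A + adjJ J B := fun A B => by
        rw [adjJ, adjJ, adjJ, transpose_add, mul_add, add_mul]
      rw [e, hS.adjJ_rk, hS.adjJ_rk])
    (by
      have h1 := congrArg (fun g : GL (Fin t → Fin k) F => (g : Matrix (Fin t → Fin k) (Fin t → Fin k) F)) hηz.eq
      simp only [Units.val_mul, ezv, mul_add, add_mul, one_mul, mul_one, add_right_inj] at h1
      exact h1)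
  set xa := hS.rt i a with hxa
  have hrank := (hrankη ha0 hca).trans hηy'
  set w := xa * η with hw
  have hws : Small J H T w := by
    refine ⟨mul_mem (hS.rt_mem _ _) hηs.1, by rw [hw, hca.mul_mul_mul_comm, hS.rt_sq, hηη, mul_one],
      (cenG T).mul_mem (hS.small_rt hi ha0).cen hηs.2, ?_⟩
    rw [hw, ← hca.eq]
    exact hrank
  have hwa : Commute w (hS.rt i a) := (Commute.refl xa).mul_left hca
  obtain ⟨l, c, hl, hc, ew⟩ := hS.rt_of_slot hws (hS.slot_of_commute hR IH hi hws ha0 hwa)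
  have hηeq : η = xa * w := by rw [hw, ← mul_assoc, hS.rt_sq, one_mul]
  by_cases hli : l = i
  · refine hns (hS.slot_of_single hR IH hi hy hηs.1 hηη hη1 (S := rk J a a + rk J c c) ?_ hηy.symm)
    subst hli
    rw [hηeq, ew]
    refine hS.pair_val ?_
    rw [ew] at hwa
    exact (hS.rt_commute_iff _ a c).1 hwa.symm
  obtain ⟨b, hab, hb⟩ := hS.exists_perp_indep (u := a)
  have hb0 : b ≠ 0 := fun e => hb 0 (by rw [e, zero_smul])
  have hwb : Commute w (hS.rt i b) := by rw [ew]; exact hS.rt_commute_ne hli _ _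
  have hcb : Commute η (hS.rt i b) := by
    rw [hηeq]
    exact ((hS.rt_commute_iff i a b).2 hab).mul_left hwb
  obtain ⟨N, eN⟩ := hS.outer_rt (i := i) hli c
  rw [← ew] at eN
  have h2 := hS.pair_ext_ge (i := i) ha0 hab hb hws.sq eN
  have h3 := (hrankη hb0 hcb).trans hηy'
  rw [hηeq, mul_assoc, hwb.eq, ← mul_assoc] at h3
  rw [← hxa] at h2
  omega

end Setting

/-- every involution of smallest rank centralising some slots is a slot root element -/
theorem Setting.slot_of_small (hS : Setting J H) (hR : Rigid J H) :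
    ∀ (T : Finset (Fin t)) (y : GL (Fin t → Fin k) F), Small J H T y → Slot J y := by
  suffices ∀ (n : ℕ) (T : Finset (Fin t)), Tᶜ.card = n → ∀ y, Small J H T y → Slot J y from
    fun T => this _ T rfl
  intro n
  induction n with
  | zero =>
    intro T hT y hy
    rw [Finset.card_eq_zero, Finset.compl_eq_empty_iff] at hT
    haveI := hS.slot_nonempty
    obtain ⟨κ, hκ⟩ := eq_smul_one_of_commute (y : Matrix (Fin t → Fin k) (Fin t → Fin k) F)
      fun j A => (hy.cen j (hT ▸ Finset.mem_univ j) A).eq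
    exfalso
    have h1 := congrArg (fun g : GL (Fin t → Fin k) F => (g : Matrix (Fin t → Fin k) (Fin t → Fin k) F)) hy.sq
    simp only [Units.val_mul, Units.val_one, hκ, smul_mul_smul_comm, mul_one] at h1
    obtain ⟨x⟩ : Nonempty (Fin t → Fin k) := ⟨fun _ => Classical.arbitrary _⟩
    have h2 := congrFun (congrFun h1 x) x
    simp only [Matrix.smul_apply, Matrix.one_apply_eq, smul_eq_mul, mul_one] at h2
    have h3 : (κ + 1) * (κ + 1) = 0 := by linear_combination h2 + (κ + 1) * hS.two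
    have h4 : κ = 1 := by linear_combination (mul_self_eq_zero.1 h3) - hS.two
    have h5 := hy.rank
    rw [nl, hκ, h4, one_smul, dbl hS.two, rank_zero] at h5
    have := hS.nn_pos
    omega
  | succ n ih =>
    intro T hT y hy
    obtain ⟨i, hi⟩ : Tᶜ.Nonempty := Finset.card_pos.1 (by omega)
    rw [Finset.mem_compl] at hi
    refine hS.slot_step hR (fun j hj => ih (insert j T) ?_) hi hy
    rw [Finset.compl_insert, Finset.card_erase_of_mem (Finset.mem_compl.2 hj), hT, Nat.add_sub_cancel]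

/-- planes, or the standard wreath product -/
theorem Setting.planes_or_standard (hS : Setting J H) (ht : 0 < t) :
    (∃ d, PlaneTwo J H d) ∨ ∀ g ∈ H, g ∈ tensorWreathStandard k t F := by
  by_cases hR : Rigid J H
  swap
  · left
    simp only [Rigid, not_forall, not_exists] at hR
    obtain ⟨i, a, ha, hns⟩ := hR
    obtain ⟨d, hd⟩ := hS.aop_all ha hns
    exact ⟨d, hS.planeTwo hd⟩
  right
  intro g hg
  classical
  haveI := hS.slot_nonempty
  have himg : ∀ (i : Fin t) (u : Fin k → F), u ≠ 0 → ∃ (l : Fin t) (p : Fin k → F), p ≠ 0 ∧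
      g * hS.rt i u * g⁻¹ = hS.rt l p := fun i u hu => by
    have hs : Small J H ∅ (g * hS.rt i u * g⁻¹) :=
      (hS.small_rt (Finset.notMem_empty i) hu).conj (Subgroup.mem_inf.2 ⟨hg, fun j hj => absurd hj (Finset.notMem_empty j)⟩)
    obtain ⟨l, p, -, hp, e⟩ := hS.rt_of_slot hs (hS.slot_of_small hR ∅ _ hs)
    exact ⟨l, p, hp, e⟩
  choose lf pf hpf hef using himg
  have hsame : ∀ i u v (hu : u ≠ 0) (hv : v ≠ 0), bf J u v ≠ 0 → lf i u hu = lf i v hv := fun i u v hu hv hb => by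
    by_contra hne
    refine hb ((hS.rt_commute_iff i u v).1 ?_)
    have h1 := hS.rt_commute_ne hne (pf i u hu) (pf i v hv)
    rw [← hef, ← hef] at h1
    exact (Commute.conj_iff g).1 h1
  have hcommon : ∀ {u v : Fin k → F}, u ≠ 0 → v ≠ 0 → ∃ z, bf J u z ≠ 0 ∧ bf J v z ≠ 0 := fun {u v} hu hv => by
    obtain ⟨a, ha⟩ := exists_bf_ne J hS.det hu
    obtain ⟨b, hb⟩ := exists_bf_ne J hS.det hv
    by_cases h1 : bf J v a = 0
    · by_cases h0 : bf J u b = 0
      · exact ⟨a + b, by rwa [bf_add_right, h0, add_zero], by rwa [bf_add_right, h1, zero_add]⟩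
      · exact ⟨b, h0, hb⟩
    · exact ⟨a, ha, h1⟩
  have hconst : ∀ i u v (hu : u ≠ 0) (hv : v ≠ 0), lf i u hu = lf i v hv := fun i u v hu hv => by
    obtain ⟨z, h1, h2⟩ := hcommon hu hv
    have hz : z ≠ 0 := fun e => h1 (by rw [e, bf, mulVec_zero, dotProduct_zero])
    rw [hsame i u z hu hz h1, hsame i v z hv hz h2]
  obtain ⟨u₀, hu₀⟩ : ∃ u : Fin k → F, u ≠ 0 := ⟨Pi.single ⟨0, by have := hS.dim; omega⟩ 1, by simp⟩
  let π : Fin t → Fin t := fun i => lf i u₀ hu₀
  set G := (g : Matrix (Fin t → Fin k) (Fin t → Fin k) F) with hG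
  refine mem_wreath (by have := hS.dim; omega) ht π fun j A => ?_
  let P : Matrix (Fin k) (Fin k) F → Prop := fun A => ∃ B, G * sl j A = sl (π j) B * G
  have hzero : P 0 := ⟨0, by rw [sl_zero, sl_zero, mul_zero, zero_mul]⟩
  have hadd : ∀ A A', P A → P A' → P (A + A') := fun A A' ⟨B, h⟩ ⟨B', h'⟩ =>
    ⟨B + B', by rw [sl_add, sl_add, mul_add, add_mul, h, h']⟩
  have hsq : ∀ u, P (rk J u u) := fun u => by
    rcases eq_or_ne u 0 with rfl | hu
    · rw [show rk J (0 : Fin k → F) 0 = 0 by rw [rk, zero_vecMulVec]]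
      exact hzero
    refine ⟨rk J (pf j u hu) (pf j u hu), ?_⟩
    have h1 : g * hS.rt j u = hS.rt (π j) (pf j u hu) * g := by
      rw [show π j = lf j u hu from hconst j u₀ u hu₀ hu, ← hef]
      group
    have h2 := congrArg (fun g : GL (Fin t → Fin k) F => (g : Matrix (Fin t → Fin k) (Fin t → Fin k) F)) h1
    simp only [Units.val_mul, hS.rt_val, ← hG, mul_add, add_mul, one_mul, mul_one, add_right_inj] at h2
    exact h2
  have hne : ∀ u v, bf J u v ≠ 0 → P (rk J u v) := fun u v hb => by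
    obtain ⟨B, h⟩ := hsq u
    obtain ⟨B', h'⟩ := hsq v
    refine ⟨(bf J u v)⁻¹ • (B * B'), ?_⟩
    have e : rk J u v = (bf J u v)⁻¹ • (rk J u u * rk J v v) := by
      rw [rk_mul_rk, inv_smul_smul₀ hb]
    rw [e, sl_smul, sl_smul, mul_smul_comm, smul_mul_assoc, ← sl_mul, ← sl_mul, ← mul_assoc, h, mul_assoc, h',
      ← mul_assoc]
  have hall : ∀ u v, P (rk J u v) := fun u v => by
    rcases eq_or_ne u 0 with rfl | hu
    · rw [show rk J (0 : Fin k → F) v = 0 by rw [rk, zero_vecMulVec]]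
      exact hzero
    by_cases hb : bf J u v = 0
    swap
    · exact hne u v hb
    obtain ⟨z, hz⟩ := exists_bf_ne J hS.det hu
    rw [show v = (v + z) + z by rw [add_assoc, dbl' hS.two z, add_zero], rk_add_right]
    exact hadd _ _ (hne _ _ (by rwa [bf_add_right, hb, zero_add])) (hne _ _ hz)
  rw [← rk_sum hS A]
  exact Finset.sum_induction _ P hadd hzero fun b _ => hall _ _

end Cfsg.Agent.ClassicalMax.OWreath.Two
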