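import Cfsg.Agent.ClassicalMax.OWreath.Two.Basic

/-!
Characteristic two: a subalgebra of the matrices on a tensor power of an alternating form, stable under the slot root
elements and not scalar, contains all matrices of one slot.
-/

set_option autoImplicit false
set_option linter.unusedSectionVars false

namespace Cfsg.Agent.ClassicalMax.OWreath.Two

open Matrix Cfsg.Agent.ClassicalMax.TPow

variable {F : Type*} [Field F] [Finite F] {k t : ℕ} {J : Matrix (Fin k) (Fin k) F}
  {H : Subgroup (GL (Fin t → Fin k) F)} {β : Type} [Fintype β] [DecidableEq β]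

/-- a root of one slot -/
def IsRootS (J : Matrix (Fin k) (Fin k) F) (X : Matrix (Fin k) (Fin k) F) : Prop :=
  (∃ v, X = rk J v v) ∨ ∃ u v, bf J u v = 0 ∧ X = rk J u v + rk J v u

/-- a subalgebra stable under the slot root elements -/
structure Inv (J : Matrix (Fin k) (Fin k) F) (P : Matrix (β → Fin k) (β → Fin k) F → Prop) : Prop where
  one : P 1
  add : ∀ c d, P c → P d → P (c + d)
  smul : ∀ c, P c → ∀ s : F, P (s • c)
  mul : ∀ c d, P c → P d → P (c * d)
  delta : ∀ c, P c → ∀ (l : β) (X : Matrix (Fin k) (Fin k) F), IsRootS J X →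
    P (sl l X * c + c * sl l X + sl l X * c * sl l X)

/-- three nested deltas -/
theorem triple {R : Type*} [Ring R] {e f g : R} (c : R) (fe : f * e = 0) (ef : e * f = 0) (gf : g * f = 0)
    (fg : f * g = 0) :
    g * (f * (e * c + c * e + e * c * e) + (e * c + c * e + e * c * e) * f + f * (e * c + c * e + e * c * e) * f) +
      (f * (e * c + c * e + e * c * e) + (e * c + c * e + e * c * e) * f + f * (e * c + c * e + e * c * e) * f) * g +
      g * (f * (e * c + c * e + e * c * e) + (e * c + c * e + e * c * e) * f + f * (e * c + c * e + e * c * e) * f) * g =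
      g * e * c * f + f * c * (e * g) := by
  have h2 : f * (e * c + c * e + e * c * e) + (e * c + c * e + e * c * e) * f + f * (e * c + c * e + e * c * e) * f =
      f * c * e + e * c * f := by
    simp only [mul_add, add_mul, mul_assoc, ef, mul_zero, add_zero, zero_add, ← mul_assoc f e, fe, zero_mul]
  rw [h2]
  simp only [mul_add, add_mul, mul_assoc, fg, mul_zero, add_zero, zero_add, ← mul_assoc g f, gf, zero_mul]

/-- monomials of a set of slots -/
def mono (S : Finset β) (U : β → Matrix (Fin k) (Fin k) F) : Matrix (β → Fin k) (β → Fin k) F :=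
  tens (S.piecewise U 1)

theorem mono_insert {S : Finset β} {l : β} (hl : l ∉ S) (U : β → Matrix (Fin k) (Fin k) F) :
    mono (insert l S) U = sl l (U l) * mono S U := by
  rw [mono, mono, sl, tens_mul]
  congr 1
  funext j
  rcases eq_or_ne j l with rfl | hj
  · simp [hl]
  · simp [Finset.piecewise, hj]

theorem mono_congr {S : Finset β} {U U' : β → Matrix (Fin k) (Fin k) F} (h : ∀ j ∈ S, U j = U' j) :
    mono S U = mono S U' := by
  rw [mono, mono]
  congr 1
  funext j
  by_cases hj : j ∈ S <;> simp [hj]
  exact h j hj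

theorem mono_commute {S : Finset β} {l : β} (hl : l ∉ S) (U : β → Matrix (Fin k) (Fin k) F)
    (A : Matrix (Fin k) (Fin k) F) : Commute (mono S U) (sl l A) :=
  sl_commute_of_one (Finset.piecewise_eq_of_notMem S _ _ hl) A

theorem mono_mul (S : Finset β) (U U' : β → Matrix (Fin k) (Fin k) F) :
    mono S U * mono S U' = mono S fun j => U j * U' j := by
  rw [mono, mono, mono, tens_mul]
  congr 1
  funext j
  by_cases hj : j ∈ S <;> simp [hj]

namespace Inv

variable {P : Matrix (β → Fin k) (β → Fin k) F → Prop}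

theorem zero (hP : Inv J P) : P 0 := by
  have := hP.smul _ hP.one (0 : F)
  rwa [zero_smul] at this

theorem sum (hP : Inv J P) {γ : Type} (s : Finset γ) (f : γ → Matrix (β → Fin k) (β → Fin k) F)
    (h : ∀ x ∈ s, P (f x)) : P (∑ x ∈ s, f x) := Finset.sum_induction f P hP.add hP.zero h

theorem conj (hP : Inv J P) {c : Matrix (β → Fin k) (β → Fin k) F} (hc : P c) (l : β)
    {X : Matrix (Fin k) (Fin k) F} (hX : IsRootS J X) : P ((1 + sl l X) * c * (1 + sl l X)) := by
  have h := hP.add _ _ hc (hP.delta c hc l X hX)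
  rwa [show (1 + sl l X) * c * (1 + sl l X) = c + (sl l X * c + c * sl l X + sl l X * c * sl l X) by noncomm_ring]

theorem mono_conj (hP : Inv J P) {S : Finset β} {U : β → Matrix (Fin k) (Fin k) F} (h : P (mono S U)) {l : β}
    (hl : l ∈ S) {X : Matrix (Fin k) (Fin k) F} (hX : IsRootS J X) :
    P (mono S (Function.update U l ((1 + X) * U l * (1 + X)))) := by
  have h1 := hP.conj h l hX
  have e : (1 + sl l X) * mono S U * (1 + sl l X) = mono S (Function.update U l ((1 + X) * U l * (1 + X))) := by
    rw [← sl_one (β := β) (κ := Fin k) (F := F) l, ← sl_add, mono, mono, sl, tens_mul, tens_mul]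
    congr 1
    funext j
    rcases eq_or_ne j l with rfl | hj
    · simp [hl]
    · by_cases hjS : j ∈ S <;> simp [hj, hjS]
  rwa [e] at h1

/-- changing all the slots of a monomial -/
theorem mono_all {S : Finset β} {U : β → Matrix (Fin k) (Fin k) F} (h : P (mono S U))
    (T : β → Matrix (Fin k) (Fin k) F)
    (hstep : ∀ l ∈ S, ∀ V : β → Matrix (Fin k) (Fin k) F, V l = U l → P (mono S V) →
      P (mono S (Function.update V l (T l)))) :
    P (mono S T) := by
  suffices ∀ s : Finset β, s ⊆ S → P (mono S (s.piecewise T U)) by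
    have h1 := this S le_rfl
    rwa [mono_congr (U' := T) fun j hj => Finset.piecewise_eq_of_mem _ _ _ hj] at h1
  intro s
  induction s using Finset.induction_on with
  | empty => intro _; rwa [Finset.piecewise_empty]
  | insert j s hj ih =>
    intro hsub
    have h1 := hstep j (hsub (Finset.mem_insert_self j s)) _ (Finset.piecewise_eq_of_notMem _ _ _ hj)
      (ih fun l hl => hsub (Finset.mem_insert_of_mem hl))
    rwa [← Finset.piecewise_insert] at h1

end Inv

theorem isSquare_two (h2 : (2 : F) = 0) (a : F) : IsSquare a := by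
  haveI : CharP F 2 := CharTwo.of_one_ne_zero_of_two_eq_zero one_ne_zero h2
  exact FiniteField.isSquare_of_char_two (ringChar.eq F 2) a

theorem rk_mul_mul (a b p q : Fin k → F) (M : Matrix (Fin k) (Fin k) F) :
    rk J a b * M * rk J p q = bf J b (M *ᵥ p) • rk J a q := by
  rw [mul_assoc, mul_rk, rk_mul_rk]

theorem slice'_add' {l : β} (R Z : Matrix (β → Fin k) (β → Fin k) F) (x y : β → Fin k) :
    slice' (R + Z) l x y = slice' R l x y + slice' Z l x y := rfl

variable (hS : Setting J H)
include hS

theorem rk_sum (R : Matrix (Fin k) (Fin k) F) : ∑ b, rk J (Pi.single b 1) (R.row b ᵥ* J⁻¹) = R := by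
  ext x y
  simp only [rk, Matrix.sum_apply, vecMulVec_apply, vecMul_vecMul, nonsing_inv_mul J hS.det, vecMul_one,
    Pi.single_apply, ite_mul, one_mul, zero_mul, Finset.sum_ite_eq, Finset.mem_univ, if_true]
  rfl

theorem slice'_zero_left {l : β} (x y : β → Fin k) :
    slice' (0 : Matrix (β → Fin k) (β → Fin k) F) l x y = 0 := by
  ext a b; rfl

/-- the plane element is not zero -/
theorem plane_ne_zero {a x : Fin k → F} (ha : a ≠ 0) (hax : bf J a x = 0) (hx : ∀ r : F, x ≠ r • a) :
    rk J a x + rk J x a ≠ 0 := fun e => by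
  obtain ⟨z, hz1, hz2⟩ := hS.dual2 hx
  have h := congrArg (· *ᵥ z) e
  simp only [add_mulVec, rk_mulVec, hz1, hz2, zero_smul, one_smul, add_zero, zero_mulVec] at h
  exact ha h

/-- one more slot -/
theorem split_slot {P : Matrix (β → Fin k) (β → Fin k) F → Prop} (hP : Inv J P) {S : Finset β}
    {U : β → Matrix (Fin k) (Fin k) F} {R : Matrix (β → Fin k) (β → Fin k) F} {s : Finset β}
    (hPR : P (mono S U * R)) (hRc : ∀ j ∈ s, ∀ A, Commute R (sl j A)) {l : β} (hlS : l ∉ S) (hls : l ∉ s)
    (hcom : ¬ ∀ A, Commute R (sl l A)) :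
    ∃ a x : Fin k → F, a ≠ 0 ∧ bf J a x = 0 ∧ (∀ r : F, x ≠ r • a) ∧ ∃ R', R' ≠ 0 ∧
      P (mono (insert l S) (Function.update U l (rk J a x + rk J x a)) * R') ∧
      ∀ j ∈ insert l s, ∀ A, Commute R' (sl j A) := by
  classical
  have hdim := hS.dim
  haveI : Nonempty (Fin k) := ⟨⟨0, by omega⟩⟩
  -- the common part
  have main : ∀ (e f g : Matrix (Fin k) (Fin k) F) (a x : Fin k → F) (φ : Matrix (Fin k) (Fin k) F →ₗ[F] F),
      a ≠ 0 → bf J a x = 0 → (∀ r : F, x ≠ r • a) → IsRootS J e → IsRootS J f → IsRootS J g → f * e = 0 →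
      e * f = 0 → g * f = 0 → f * g = 0 →
      (∀ u v, g * e * slice' R l u v * f + f * slice' R l u v * (e * g) =
        φ (slice' R l u v) • (rk J a x + rk J x a)) →
      (∃ u v, φ (slice' R l u v) ≠ 0) → ∃ a x : Fin k → F, a ≠ 0 ∧ bf J a x = 0 ∧ (∀ r : F, x ≠ r • a) ∧
        ∃ R', R' ≠ 0 ∧ P (mono (insert l S) (Function.update U l (rk J a x + rk J x a)) * R') ∧
        ∀ j ∈ insert l s, ∀ A, Commute R' (sl j A) := by
    intro e f g a x φ ha hax hx he hf hg hfe hef hgf hfg hval ⟨u₀, v₀, hne⟩
    set M := rk J a x + rk J x a with hM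
    set Z := sl l g * sl l e * R * sl l f + sl l f * R * (sl l e * sl l g) with hZ
    have hsl : ∀ u v, slice' Z l u v = φ (slice' R l u v) • M := fun u v => by
      rw [← hval, hZ, slice'_add', sl_mul, sl_mul, slice'_mul_sl, slice'_mul_sl, slice'_sl_mul, slice'_sl_mul]
    have hZe : Z = sl l M * lift l φ R := eq_sl_mul_lift l φ hsl
    have hM0 : M ≠ 0 := plane_ne_zero hS ha hax hx
    refine ⟨a, x, ha, hax, hx, lift l φ R, fun e0 => ?_, ?_, fun j hj A => ?_⟩
    · have h1 := hsl u₀ v₀
      rw [hZe, e0, mul_zero, slice'_zero_left hS, eq_comm, smul_eq_zero] at h1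
      exact h1.elim hne hM0
    · have h3 := hP.delta _ (hP.delta _ (hP.delta _ hPR l e he) l f hf) l g hg
      rw [triple (mono S U * R) (by rw [sl_mul, hfe, sl_zero]) (by rw [sl_mul, hef, sl_zero])
        (by rw [sl_mul, hgf, sl_zero]) (by rw [sl_mul, hfg, sl_zero])] at h3
      have e1 : sl l g * sl l e * (mono S U * R) * sl l f + sl l f * (mono S U * R) * (sl l e * sl l g) =
          mono S U * Z := by
        rw [hZ, mul_add, sl_mul, sl_mul]
        simp only [← mul_assoc, ← (mono_commute hlS U _).eq]
      rw [e1, hZe] at h3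
      rw [mono_insert hlS, Function.update_self,
        mono_congr (U' := U) fun j hj => Function.update_of_ne (fun e0 => hlS (by rw [← e0]; exact hj)) _ _,
        ← (mono_commute hlS U M).eq, mul_assoc]
      exact h3
    · rcases Finset.mem_insert.1 hj with rfl | hjs
      · exact lift_commute _ φ R A
      · have hjl : j ≠ l := fun e0 => hls (e0 ▸ hjs)
        have hcs : ∀ B, Commute (sl l B : Matrix (β → Fin k) (β → Fin k) F) (sl j A) := fun B =>
          sl_commute (Ne.symm hjl) B A
        have hZc : Commute Z (sl j A) :=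
          ((((hcs g).mul_left (hcs e)).mul_left (hRc j hjs A)).mul_left (hcs f)).add_left
            (((hcs f).mul_left (hRc j hjs A)).mul_left ((hcs e).mul_left (hcs g)))
        refine sub_eq_zero.1 (eq_zero_of_sl_mul hM0 (i := l) (fun B => ?_) ?_)
        · exact ((lift_commute l φ R B).mul_left (hcs B).symm).sub_left ((hcs B).symm.mul_left (lift_commute l φ R B))
        · rw [mul_sub, ← mul_assoc, ← mul_assoc (sl l M), (hcs M).eq, mul_assoc (sl j A), ← hZe, hZc.eq, sub_self]
  by_cases hq : ∃ (u v : β → Fin k) (a : Fin k → F), bf J a (slice' R l u v *ᵥ a) ≠ 0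
  · obtain ⟨u, v, a, hne⟩ := hq
    have ha : a ≠ 0 := fun e => hne (by rw [e, bf, zero_dotProduct])
    obtain ⟨b, hab, hb⟩ : ∃ b, bf J a b = 0 ∧ ∀ r : F, b ≠ r • a := by
      obtain ⟨z₀, hz₀⟩ := exists_bf_ne J hS.det ha
      obtain ⟨z, hz⟩ := hS.exists_outside (m := 2) (by omega) ![a, z₀]
      refine ⟨z + (-(bf J a z / bf J a z₀)) • z₀, by
        rw [bf_add_right, bf_smul_right, neg_mul, div_mul_cancel₀ _ hz₀, add_neg_cancel], fun r e => hz ?_⟩
      rw [show z = r • a + (bf J a z / bf J a z₀) • z₀ by rw [← e]; module]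
      exact Submodule.add_mem _ (Submodule.smul_mem _ _ (Submodule.subset_span ⟨0, rfl⟩))
        (Submodule.smul_mem _ _ (Submodule.subset_span ⟨1, rfl⟩))
    obtain ⟨_, _, p, q, -, -, -, -, -, hap, hbp, -, -, haq, hbq, -, -, hpq⟩ := hS.frame ha hab hb
    refine main (rk J a q + rk J q a) (rk J a a) (rk J p b + rk J b p) a b
      { toFun := fun M => bf J a (M *ᵥ a)
        map_add' := fun M N => by rw [add_mulVec, bf_add_right]
        map_smul' := fun s M => by rw [smul_mulVec, bf_smul_right]; rfl }
      ha hab hb (Or.inr ⟨_, _, haq, rfl⟩) (Or.inl ⟨a, rfl⟩)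
      (Or.inr ⟨_, _, by rw [hS.swap, hbp], rfl⟩) ?_ ?_ ?_ ?_ (fun u v => ?_) ⟨u, v, hne⟩
    iterate 4
      simp only [mul_add, add_mul, rk_mul_rk, hS.alt, hS.swap q a, hS.swap p a, hS.swap p b, hS.swap b a, hab, hap,
        hbp, haq, hbq, zero_smul, add_zero]
    · simp only [LinearMap.coe_mk, AddHom.coe_mk, mul_add, add_mul, rk_mul_rk, hS.swap q p, hS.swap q b, hS.swap p a,
        hS.swap q a, hS.swap b a, hS.swap p b, hab, hap, hbp, haq, hbq, hpq, zero_smul, one_smul, add_zero, zero_add,
        rk_mul_mul]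
      module
  · push Not at hq
    obtain ⟨u, v, hns⟩ : ∃ u v, ∀ c : F, slice' R l u v ≠ c • (1 : Matrix (Fin k) (Fin k) F) := by
      by_contra! h
      exact hcom (commute_of_slice_scalar l h)
    obtain ⟨a, x, hax, hne⟩ : ∃ a x, bf J a x = 0 ∧ bf J a (slice' R l u v *ᵥ x) ≠ 0 := by
      by_contra! h
      have heig : ∀ x, ∃ c : F, slice' R l u v *ᵥ x = c • x := fun x => by
        by_contra! hc
        rcases eq_or_ne x 0 with rfl | hx
        · exact hc 0 (by rw [mulVec_zero, smul_zero])
        obtain ⟨a, ha1, ha2⟩ := hS.dual2 hc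
        have := h a x (by rw [hS.swap, ha1])
        rw [hS.swap, ha2] at this
        exact one_ne_zero this
      obtain ⟨κ, hκ⟩ := (slice' R l u v).mulVecLin.exists_eq_smul_id_of_forall_notLinearIndependent fun z hz => by
        obtain ⟨c, hc⟩ := heig z
        have := (LinearIndependent.pair_iff.1 hz c (-1) (by rw [mulVecLin_apply, hc]; module)).2
        exact one_ne_zero (neg_eq_zero.1 this)
      exact hns κ (Matrix.toLin'.injective (LinearMap.ext fun z => by
        rw [Matrix.toLin'_apply, Matrix.toLin'_apply, smul_mulVec, one_mulVec, ← mulVecLin_apply, hκ]; simp))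
    have ha : a ≠ 0 := fun e => hne (by rw [e, bf, zero_dotProduct])
    have hx : ∀ r : F, x ≠ r • a := fun r e => hne (by rw [e, mulVec_smul, bf_smul_right, hq, mul_zero])
    obtain ⟨_, _, p, q, -, -, -, -, -, hap, hxp, -, -, haq, hxq, -, -, hpq⟩ := hS.frame ha hax hx
    have hsym : ∀ u v, bf J x (slice' R l u v *ᵥ a) = bf J a (slice' R l u v *ᵥ x) := fun u v => by
      have h1 := hq u v (a + x)
      rw [mulVec_add, bf_add_left, bf_add_right, bf_add_right, hq, hq, zero_add, add_zero] at h1
      linear_combination h1 - bf J a (slice' R l u v *ᵥ x) * hS.two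
    refine main (rk J a q + rk J q a) (rk J a x + rk J x a) (rk J p x + rk J x p) a x
      { toFun := fun M => bf J a (M *ᵥ x)
        map_add' := fun M N => by rw [add_mulVec, bf_add_right]
        map_smul' := fun s M => by rw [smul_mulVec, bf_smul_right]; rfl }
      ha hax hx (Or.inr ⟨_, _, haq, rfl⟩) (Or.inr ⟨_, _, hax, rfl⟩)
      (Or.inr ⟨_, _, by rw [hS.swap, hxp], rfl⟩) ?_ ?_ ?_ ?_ (fun u v => ?_) ⟨u, v, hne⟩
    iterate 4
      simp only [mul_add, add_mul, rk_mul_rk, hS.alt, hS.swap q a, hS.swap q x, hS.swap p a, hS.swap p x, hS.swap x a,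
        hax, hap, hxp, haq, hxq, zero_smul, add_zero]
    · simp only [LinearMap.coe_mk, AddHom.coe_mk, mul_add, add_mul, rk_mul_rk, hS.swap q p, hS.swap q x, hS.swap p a,
        hS.swap q a, hS.swap x a, hS.swap p x, hax, hap, hxp, haq, hxq, hpq, zero_smul, one_smul, add_zero, zero_add,
        rk_mul_mul, hq, hsym]
      module

/-- a non-scalar element gives all the matrices of one slot -/
theorem exists_slot {P : Matrix (β → Fin k) (β → Fin k) F → Prop} (hP : Inv J P)
    {c : Matrix (β → Fin k) (β → Fin k) F} (hc : P c)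
    (hns : ∀ κ : F, c ≠ κ • (1 : Matrix (β → Fin k) (β → Fin k) F)) : ∃ l, ∀ A, P (sl l A) := by
  classical
  have hdim := hS.dim
  haveI : Nonempty (Fin k) := ⟨⟨0, by omega⟩⟩
  suffices hmain : ∀ s : Finset β, ∃ (S : Finset β) (a x : β → Fin k → F) (R : Matrix (β → Fin k) (β → Fin k) F),
      S ⊆ s ∧ (∀ j ∈ S, a j ≠ 0 ∧ bf J (a j) (x j) = 0 ∧ ∀ r : F, x j ≠ r • a j) ∧
      P (mono S (fun j => rk J (a j) (x j) + rk J (x j) (a j)) * R) ∧ R ≠ 0 ∧
      (∀ j ∈ s, ∀ A, Commute R (sl j A)) ∧ (S = ∅ → R = c) by
    obtain ⟨S, a, x, R, -, hax, hPR, hR0, hRc, hSc⟩ := hmain Finset.univ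
    obtain ⟨κ, hκ⟩ := eq_smul_one_of_commute R fun j A => (hRc j (Finset.mem_univ j) A).eq
    have hκ0 : κ ≠ 0 := fun e => hR0 (by rw [hκ, e, zero_smul])
    obtain ⟨l₀, hl₀⟩ : S.Nonempty := Finset.nonempty_iff_ne_empty.2 fun e => hns κ ((hSc e).symm.trans hκ)
    have hM : P (mono S fun j => rk J (a j) (x j) + rk J (x j) (a j)) := by
      have := hP.smul _ hPR κ⁻¹
      rwa [hκ, mul_smul_comm, mul_one, inv_smul_smul₀ hκ0] at this
    -- root elements
    have hz : ∀ j, ∃ z, j ∈ S → bf J (x j) z = 0 ∧ bf J (a j) z = 1 := fun j => by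
      by_cases hj : j ∈ S
      · obtain ⟨z, hz⟩ := hS.dual2 (u := x j) (v := a j) fun r e => by
          rcases eq_or_ne r 0 with rfl | hr
          · exact (hax j hj).1 (by rw [e, zero_smul])
          · exact (hax j hj).2.2 r⁻¹ (by rw [e, inv_smul_smul₀ hr])
        exact ⟨z, fun _ => hz⟩
      · exact ⟨0, fun h => absurd h hj⟩
    choose z hz using hz
    have hQ : P (mono S fun j => rk J (x j) (x j)) := by
      have h2 : P (mono S fun j => (1 + rk J (z j) (z j)) * (rk J (a j) (x j) + rk J (x j) (a j)) * (1 + rk J (z j) (z j))) :=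
        Inv.mono_all hM _ fun l hl V hV hPV => by
          have h1 := hP.mono_conj hPV hl (X := rk J (z l) (z l)) (Or.inl ⟨_, rfl⟩)
          rwa [hV] at h1
      refine cast (congrArg P ?_) (hP.mul _ _ hM h2)
      rw [mono_mul]
      refine mono_congr fun j hj => ?_
      obtain ⟨h1, h3⟩ := hz j hj
      obtain ⟨-, h4, -⟩ := hax j hj
      simp only [mul_add, add_mul, mul_one, one_mul, rk_mul_rk, ← smul_mul_assoc, smul_mul_assoc, hS.alt,
        hS.swap (z j) (x j), hS.swap (z j) (a j), hS.swap (x j) (a j), h1, h3, h4, zero_smul, one_smul, add_zero,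
        zero_add, smul_zero]
    have hall : ∀ w : β → Fin k → F, P (mono S fun j => rk J (w j) (w j)) := fun w => by
      by_cases hw : ∀ j ∈ S, w j ≠ 0
      swap
      · push Not at hw
        obtain ⟨j, hj, hwj⟩ := hw
        rw [mono, tens_eq_zero_iff.2 ⟨j, by rw [Finset.piecewise_eq_of_mem _ _ _ hj, hwj, rk, zero_vecMulVec]⟩]
        exact hP.zero
      refine Inv.mono_all hQ _ fun l hl V hV hPV => ?_
      have one : ∀ (V : β → Matrix (Fin k) (Fin k) F) (p p' : Fin k → F), bf J p p' ≠ 0 → V l = rk J p p →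
          P (mono S V) → P (mono S (Function.update V l (rk J p' p'))) := fun V p p' hb hVl hPV => by
        obtain ⟨r, hr⟩ : ∃ r : F, r * r = (bf J p p')⁻¹ := by
          obtain ⟨r, hr⟩ := isSquare_two hS.two ((bf J p p')⁻¹)
          exact ⟨r, hr.symm⟩
        have h1 := hP.mono_conj hPV hl (X := rk J (r • (p' + p)) (r • (p' + p))) (Or.inl ⟨_, rfl⟩)
        refine cast (congrArg P (congrArg (mono S) (congrArg (Function.update V l) ?_))) h1
        rw [hVl]
        have e : bf J (p' + p) p = bf J p p' := by rw [bf_add_left, hS.alt, add_zero, hS.swap]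
        have e' : bf J p (p' + p) = bf J p p' := by rw [bf_add_right, hS.alt, add_zero]
        have hr1 : r * r * bf J p p' = 1 := by rw [hr, inv_mul_cancel₀ hb]
        have hp2 : p' = p + (p' + p) := by rw [add_left_comm, ← two_smul F p, hS.two, zero_smul, add_zero]
        have key : ∀ z, bf J z p = bf J p p' → bf J p z = bf J p p' →
            (1 + rk J (r • z) (r • z)) * rk J p p * (1 + rk J (r • z) (r • z)) = rk J (p + z) (p + z) := fun z e e' => by
          simp only [rk_smul_left, rk_smul_right, smul_smul, mul_add, add_mul, one_mul, mul_one, smul_mul_assoc,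
            mul_smul_comm, rk_mul_rk, rk_add_left, rk_add_right, e, e']
          match_scalars <;>
            first | ring1 | linear_combination hr1 | linear_combination (r * r * bf J p p' + 1) * hr1
        rw [key _ e e', ← hp2]
      have hx0 : x l ≠ 0 := fun e => (hax l hl).2.2 0 (by rw [e, zero_smul])
      obtain ⟨p, hp1, hp2⟩ : ∃ p, bf J (x l) p ≠ 0 ∧ bf J p (w l) ≠ 0 := by
        obtain ⟨p, hp⟩ := exists_bf_ne J hS.det hx0
        obtain ⟨p', hp'⟩ := exists_bf_ne J hS.det (hw l hl)
        rw [hS.swap] at hp'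
        by_cases h1 : bf J p (w l) = 0
        · by_cases h0 : bf J (x l) p' = 0
          · exact ⟨p + p', by rwa [bf_add_right, h0, add_zero], by rwa [bf_add_left, h1, zero_add]⟩
          · exact ⟨p', h0, hp'⟩
        · exact ⟨p, hp, h1⟩
      have h1 := one _ _ _ hp1 hV hPV
      have h2 := one _ _ _ hp2 (Function.update_self l _ V) h1
      rwa [Function.update_idem] at h2
    -- all pairs
    have hpair : ∀ f h : β → Fin k → F, P (mono S fun j => rk J (f j) (h j)) := by
      suffices ∀ (s : Finset β) (f h : β → Fin k → F), (∀ j ∈ S, j ∉ s → bf J (f j) (h j) ≠ 0) →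
          P (mono S fun j => rk J (f j) (h j)) from
        fun f h => this S f h fun j hj hj' => absurd hj hj'
      intro s
      induction s using Finset.induction_on with
      | empty =>
        intro f h hne
        have h1 := hP.mul _ _ (hall f) (hall h)
        rw [mono_mul] at h1
        simp only [rk_mul_rk] at h1
        have e : mono S (fun j => bf J (f j) (h j) • rk J (f j) (h j)) =
            (∏ j ∈ S, bf J (f j) (h j)) • mono S fun j => rk J (f j) (h j) := by
          rw [mono, mono, show ∏ j ∈ S, bf J (f j) (h j) = ∏ j, (if j ∈ S then bf J (f j) (h j) else 1) by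
              rw [← Finset.prod_filter, Finset.filter_mem_eq_inter, Finset.univ_inter],
            ← tens_smul]
          congr 1
          funext j
          by_cases hj : j ∈ S <;> simp [hj]
        rw [e] at h1
        have h2 := hP.smul _ h1 (∏ j ∈ S, bf J (f j) (h j))⁻¹
        rwa [inv_smul_smul₀ (Finset.prod_ne_zero_iff.2 fun j hj => hne j hj (Finset.notMem_empty j))] at h2
      | insert l s _ ih =>
        intro f h hne
        by_cases hl : l ∈ S → bf J (f l) (h l) ≠ 0
        · refine ih f h fun j hj hjs => ?_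
          rcases eq_or_ne j l with rfl | hjl
          · exact hl hj
          · exact hne j hj (by simp [hjl, hjs])
        push Not at hl
        obtain ⟨hlS, hl0⟩ := hl
        rcases eq_or_ne (f l) 0 with hf0 | hf0
        · rw [mono, tens_eq_zero_iff.2 ⟨l, by rw [Finset.piecewise_eq_of_mem _ _ _ hlS, hf0, rk, zero_vecMulVec]⟩]
          exact hP.zero
        obtain ⟨z, hz⟩ := exists_bf_ne J hS.det hf0
        have hsplit : ∀ v : Fin k → F, bf J (f l) v ≠ 0 →
            P (mono S fun j => rk J (f j) (Function.update h l v j)) := fun v hv => by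
          refine ih f _ fun j hj hjs => ?_
          rcases eq_or_ne j l with rfl | hjl
          · simpa using hv
          · simpa [hjl] using hne j hj (by simp [hjl, hjs])
        have h1 := hP.add _ _ (hsplit (h l + z) (by rwa [bf_add_right, hl0, zero_add])) (hsplit z hz)
        refine cast (congrArg P ?_) h1
        have eU : ∀ v, S.piecewise (fun j => rk J (f j) (Function.update h l v j)) 1 =
            Function.update (S.piecewise (fun j => rk J (f j) (h j)) 1) l (rk J (f l) v) := fun v => funext fun j => by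
          rcases eq_or_ne j l with rfl | hjl
          · simp [hlS]
          · by_cases hj : j ∈ S <;> simp [hj, hjl]
        rw [mono, mono, mono, eU, eU, ← tens_update_add, ← rk_add_right, add_assoc, ← two_smul F z, hS.two, zero_smul,
          add_zero]
        congr 1
        rw [Function.update_eq_self_iff, Finset.piecewise_eq_of_mem _ _ _ hlS]
    -- all matrices
    have hfull : ∀ (s : Finset β) (U : β → Matrix (Fin k) (Fin k) F),
        (∀ j ∈ S, j ∉ s → ∃ p q, U j = rk J p q) → P (mono S U) := by
      intro s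
      induction s using Finset.induction_on with
      | empty =>
        intro U hU
        choose! p q hpq using fun j hj => hU j hj (Finset.notMem_empty j)
        rw [mono_congr (U' := fun j => rk J (p j) (q j)) hpq]
        exact hpair p q
      | insert l s _ ih =>
        intro U hU
        by_cases hlS : l ∈ S
        swap
        · exact ih U fun j hj hjs => hU j hj (by simp [hjs, show j ≠ l from fun e => hlS (e ▸ hj)])
        let φ : Matrix (Fin k) (Fin k) F →+ Matrix (β → Fin k) (β → Fin k) F :=
          AddMonoidHom.mk' (fun A => tens (Function.update (S.piecewise U 1) l A)) fun A B => tens_update_add _ l A B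
        have e : mono S U = ∑ b, φ (rk J (Pi.single b 1) ((U l).row b ᵥ* J⁻¹)) := by
          rw [← map_sum, rk_sum hS]
          show _ = tens _
          rw [mono]
          congr 1
          rw [eq_comm, Function.update_eq_self_iff, Finset.piecewise_eq_of_mem _ _ _ hlS]
        rw [e]
        refine hP.sum _ _ fun b _ => ?_
        have h1 := ih (Function.update U l (rk J (Pi.single b 1) ((U l).row b ᵥ* J⁻¹))) fun j hj hjs => by
          rcases eq_or_ne j l with rfl | hjl
          · exact ⟨_, _, Function.update_self ..⟩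
          · obtain ⟨p, q, h⟩ := hU j hj (by simp [hjs, hjl])
            exact ⟨p, q, by rw [Function.update_of_ne hjl, h]⟩
        refine cast (congrArg P ?_) h1
        show mono S _ = tens _
        rw [mono]
        congr 1
        funext j
        rcases eq_or_ne j l with rfl | hjl
        · simp [hlS]
        · by_cases hj : j ∈ S <;> simp [hj, hjl]
    refine ⟨l₀, fun A => cast (congrArg P ?_) (hfull S (Function.update 1 l₀ A) fun j hj hj' => absurd hj hj')⟩
    rw [mono, sl]
    congr 1
    funext j
    rcases eq_or_ne j l₀ with rfl | hj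
    · simp [hl₀]
    · by_cases hjS : j ∈ S <;> simp [hj, hjS]
  intro s
  induction s using Finset.induction_on with
  | empty =>
    refine ⟨∅, 0, 0, c, le_rfl, fun j hj => absurd hj (Finset.notMem_empty j), ?_,
      fun e => hns 0 (by rw [e, zero_smul]), fun j hj => absurd hj (Finset.notMem_empty j), fun _ => rfl⟩
    rw [mono, Finset.piecewise_empty, tens_one, one_mul]
    exact hc
  | insert l s hls ih =>
    obtain ⟨S, a, x, R, hSs, hax, hPR, hR0, hRc, hSc⟩ := ih
    by_cases hcom : ∀ A, Commute R (sl l A)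
    · refine ⟨S, a, x, R, hSs.trans (Finset.subset_insert l s), hax, hPR, hR0, fun j hj => ?_, hSc⟩
      rcases Finset.mem_insert.1 hj with rfl | hj
      · exact hcom
      · exact hRc j hj
    have hlS : l ∉ S := fun h => hls (hSs h)
    obtain ⟨p, q, hp, hpq, hq, R', hR'0, hPR', hR'c⟩ := split_slot hS hP hPR hRc hlS hls hcom
    refine ⟨insert l S, Function.update a l p, Function.update x l q, R', Finset.insert_subset_insert l hSs,
      fun j hj => ?_, ?_, hR'0, hR'c, fun e => absurd e (Finset.insert_ne_empty l S)⟩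
    · rcases eq_or_ne j l with rfl | h
      · simpa using ⟨hp, hpq, hq⟩
      · simpa [h] using hax j (Finset.mem_of_mem_insert_of_ne hj h)
    · refine cast (congrArg (fun U => P (U * R')) (mono_congr fun j hj => ?_)) hPR'
      rcases eq_or_ne j l with rfl | h
      · simp
      · simp [h]

end Cfsg.Agent.ClassicalMax.OWreath.Two
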