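import Cfsg.Agent.ClassicalMax.OWreath.Two.Alg

/-!
Characteristic two: the operators on the other slots that can be attached to the orthogonal pairs of a slot form a
stable subalgebra; if it is not scalar, the group contains the root elements of the planes of pure tensors.
-/

set_option autoImplicit false
set_option linter.unusedSectionVars false

namespace Cfsg.Agent.ClassicalMax.OWreath.Two

open Matrix Cfsg.Agent.ClassicalMax.TPow
open Cfsg.Agent.ClassicalMax.LWreath (Rst at1_inj at1 inL outL ext outL_inL inL_outL inL_mul_outL fu InH rs)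
open Cfsg.Agent.ClassicalMax.SpWreath (GV GV_det)

variable {F : Type*} [Field F] [Finite F] {k t : ℕ} {J : Matrix (Fin k) (Fin k) F}
  {H : Subgroup (GL (Fin t → Fin k) F)} {i : Fin t}

/-- the self-adjoint operator of a pair of vectors of a slot and an operator on the other slots -/
noncomputable def Y (J : Matrix (Fin k) (Fin k) F) (i : Fin t) (u v : Fin k → F)
    (a : Matrix (Rst k i) (Rst k i) F) : Matrix (Fin t → Fin k) (Fin t → Fin k) F :=
  inL i u * a * ov J i v + inL i v * adG J a * ov J i u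

/-- the operators attached to all orthogonal pairs of a slot -/
def Aop (J : Matrix (Fin k) (Fin k) F) (H : Subgroup (GL (Fin t → Fin k) F)) (i : Fin t)
    (a : Matrix (Rst k i) (Rst k i) F) : Prop :=
  ∀ u v, u ≠ 0 → bf J u v = 0 → (∀ s : F, v ≠ s • u) → InH H (1 + Y J i u v a)

/-- the root elements of the planes of pure tensors differing in one slot -/
def PlaneTwo (J : Matrix (Fin k) (Fin k) F) (H : Subgroup (GL (Fin t → Fin k) F)) (d : Fin t) : Prop :=
  ∀ (a : Fin t → Fin k → F) (x y : Fin k → F), bf J x y = 0 → ∀ s : F,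
    InH H (1 + s • tens (Function.update (fun j => rk J (a j) (a j)) d (rk J x y + rk J y x)))

theorem term_mul (u v x y : Fin k → F) (a b : Matrix (Rst k i) (Rst k i) F) :
    inL i u * a * ov J i v * (inL i x * b * ov J i y) = bf J v x • (inL i u * (a * b) * ov J i y) := by
  simp only [Matrix.mul_assoc, ov_iv_mul, Matrix.mul_smul]

theorem conj_add (g A B : Matrix (Fin t → Fin k) (Fin t → Fin k) F) : g * (A + B) * g = g * A * g + g * B * g := by
  rw [mul_add, add_mul]

theorem InH.sq2 (h2 : (2 : F) = 0) {X Z : Matrix (Fin t → Fin k) (Fin t → Fin k) F} (hX : InH H (1 + X))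
    (hZ : InH H (1 + Z)) (hXX : X * X = 0) (hZZ : Z * Z = 0) (hXZX : X * Z * X = 0) (hZXZ : Z * X * Z = 0) :
    InH H (1 + (X * Z + Z * X)) := by
  obtain ⟨x, hx, ex⟩ := hX
  obtain ⟨z, hz, ez⟩ := hZ
  refine ⟨x * z * (x * z), mul_mem (mul_mem hx hz) (mul_mem hx hz), ?_⟩
  rw [Units.val_mul, Units.val_mul, ex, ez]
  have e : ∀ S : Matrix (Fin t → Fin k) (Fin t → Fin k) F, (1 + S) * (1 + S) = 1 + S * S := fun S => by
    rw [mul_add, mul_one, add_mul, one_mul, add_assoc, ← add_assoc S, dbl h2, zero_add]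
  rw [show (1 + X) * (1 + Z) = 1 + (X + Z + X * Z) by noncomm_ring, e]
  congr 1
  simp only [mul_add, add_mul, ← mul_assoc, hXX, hZZ, hXZX, hZXZ, zero_mul, add_zero, zero_add]
  simp only [mul_assoc, hXX, hZZ, mul_zero, add_zero, zero_add]
  abel

/-- the slot part and the rest of a tensor -/
theorem sl_mul_ext_tens (i : Fin t) (U : Fin t → Matrix (Fin k) (Fin k) F) (M : Matrix (Fin k) (Fin k) F) :
    sl i M * ext i (tens fun l : Rest (at1 i) => U l.1) = tens (Function.update U i M) := by
  rw [← LWreath.emb_sl0 i M, LWreath.ext, emb_mul, mul_one, one_mul, ← emb_tens (at1_inj i) (Function.update U i M)]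
  congr 1
  · rw [sl]
    congr 1
    funext a
    rw [Subsingleton.elim a 0]
    simp
  · congr 1
    funext l
    rw [Function.update_of_ne fun h => l.2 0 h.symm]

namespace Setting

variable (hS : Setting J H)
include hS

theorem Y_mul (u v : Fin k → F) (hu : bf J u v = 0) (a b : Matrix (Rst k i) (Rst k i) F) :
    Y J i u v a * Y J i u v b = 0 := by
  simp only [Y, mul_add, add_mul, term_mul, hS.alt, hu, hS.swap v u, zero_smul, add_zero]

omit hS in
theorem Y_smul_left (s : F) (u v : Fin k → F) (a : Matrix (Rst k i) (Rst k i) F) :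
    Y J i (s • u) v a = s • Y J i u v a := by
  simp only [Y, LWreath.inL_smul, ov_smul, Matrix.smul_mul, Matrix.mul_smul, smul_add]

theorem Y_smul (s : F) (u v : Fin k → F) (a : Matrix (Rst k i) (Rst k i) F) :
    Y J i u v (s • a) = s • Y J i u v a := by
  simp only [Y, hS.adG_smul, Matrix.smul_mul, Matrix.mul_smul, smul_add]

theorem Y_add (u v : Fin k → F) (a b : Matrix (Rst k i) (Rst k i) F) :
    Y J i u v (a + b) = Y J i u v a + Y J i u v b := by
  simp only [Y, hS.adG_add, Matrix.mul_add, Matrix.add_mul]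
  abel

theorem Y_one (u v : Fin k → F) : Y J i u v 1 = sl i (rk J u v + rk J v u) := by
  rw [Y, hS.adG_one, Matrix.mul_one, Matrix.mul_one, iv_ov, iv_ov, sl_add]

theorem aop_one : Aop J H i 1 := fun u v _ h _ => by rw [hS.Y_one]; exact hS.mixed i h

theorem aop_add {a b : Matrix (Rst k i) (Rst k i) F} (ha : Aop J H i a) (hb : Aop J H i b) : Aop J H i (a + b) :=
  fun u v hu h hv => by
    rw [hS.Y_add]
    exact (ha u v hu h hv).add (hb u v hu h hv) (hS.Y_mul u v h a b)

theorem aop_smul {a : Matrix (Rst k i) (Rst k i) F} (ha : Aop J H i a) (s : F) : Aop J H i (s • a) := by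
  rcases eq_or_ne s 0 with rfl | hs
  · intro u v _ _ _
    rw [hS.Y_smul, zero_smul, add_zero]
    exact ⟨1, one_mem H, rfl⟩
  intro u v hu h hv
  rw [hS.Y_smul, ← Y_smul_left]
  exact ha _ v (smul_ne_zero hs hu) (by rw [bf_smul_left, h, mul_zero]) fun r e => hv (r * s) (by rw [e, smul_smul])

/-- the commutator rule -/
theorem rule (u p q w : Fin k → F) {a b c : Matrix (Rst k i) (Rst k i) F} (hup : bf J u p = 0) (huq : bf J u q = 0)
    (huw : bf J u w = 0) (hqw : bf J q w = 0) (hpw : bf J p w = 0) (hpq : bf J p q = 1)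
    (hD : InH H (1 + (Y J i u p a + inL i u * c * ov J i u))) (hE : InH H (1 + Y J i q w b)) :
    InH H (1 + Y J i u w (a * b)) := by
  have e := InH.sq2 hS.two hD hE ?_ ?_ ?_ ?_
  · refine cast (congrArg (fun Z => InH H (1 + Z)) ?_) e
    simp only [Y, mul_add, add_mul, term_mul, hS.adG_mul, hup, huq, huw, hqw, hpw, hpq, hS.swap q u, hS.swap w u,
      hS.swap w p, hS.swap q p, zero_smul, one_smul, add_zero, zero_add]
  all_goals
    simp only [Y, mul_add, add_mul, term_mul, smul_mul_assoc, mul_smul_comm, smul_smul, smul_zero, hS.alt, hup, huq,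
      huw, hqw, hpw, hpq, hS.swap p u, hS.swap q u, hS.swap w u, hS.swap w p, hS.swap w q, hS.swap q p, zero_smul,
      one_smul, mul_zero, zero_mul, add_zero, zero_add]

/-- the moves of a slot root -/
theorem root_step (z x y : Fin k → F) (a : Matrix (Rst k i) (Rst k i) F) (h : InH H (1 + Y J i x y a)) (s : F) :
    InH H (1 + Y J i (x + (s * bf J z x) • z) (y + (s * bf J z y) • z) a) := by
  obtain ⟨r, hr⟩ := isSquare_two hS.two s
  obtain ⟨g, hg, ge⟩ := hS.root i (r • z)
  have hN : sl i (rk J (r • z) (r • z)) * sl i (rk J (r • z) (r • z)) = 0 := by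
    rw [sl_mul, rk_mul_rk, hS.alt, zero_smul, sl_zero]
  have h1 := InH.conj h hg
  rw [LWreath.inv_val_eq ge hN, ge, sub_eq_add_neg, neg_self hS.two] at h1
  refine cast (congrArg (fun Z => InH H (1 + Z)) ?_) h1
  have e1 : ∀ v, (1 + sl i (rk J (r • z) (r • z))) * inL i v = inL i (v + (s * bf J z v) • z) := fun v => by
    rw [Matrix.add_mul, Matrix.one_mul, sl_iv, rk_mulVec, bf_smul_left, smul_smul, LWreath.inL_add, hr]
    congr 3
    ring
  have e2 : ∀ v, ov J i v * (1 + sl i (rk J (r • z) (r • z))) = ov J i (v + (s * bf J z v) • z) := fun v => by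
    rw [Matrix.mul_add, Matrix.mul_one, ov_add, ov, ov, LWreath.outL_mul_sl, rk, vecMul_vecMulVec,
      ← dotProduct_mulVec]
    change _ + outL i (bf J v (r • z) • ((r • z) ᵥ* J)) = _
    rw [bf_smul_right, smul_vecMul, smul_smul, hS.swap v z, smul_vecMul, mul_assoc, mul_comm _ r, ← mul_assoc, hr]
  have e3 : ∀ (p q : Fin k → F) (b : Matrix (Rst k i) (Rst k i) F),
      (1 + sl i (rk J (r • z) (r • z))) * (inL i p * b * ov J i q) * (1 + sl i (rk J (r • z) (r • z))) =
        inL i (p + (s * bf J z p) • z) * b * ov J i (q + (s * bf J z q) • z) := fun p q b => by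
    rw [← e1, ← e2]
    simp only [Matrix.mul_assoc]
  rw [Y, conj_add, e3, e3, Y]

theorem aop_of_pair {a : Matrix (Rst k i) (Rst k i) F} {x₀ y₀ : Fin k → F} (hx₀ : x₀ ≠ 0) (hxy : bf J x₀ y₀ = 0)
    (hne : ∀ s : F, y₀ ≠ s • x₀) (h : InH H (1 + Y J i x₀ y₀ a)) : Aop J H i a := fun u v hu huv hv =>
  hS.pairs (M := fun x y => InH H (1 + Y J i x y a)) (fun x y z h s => hS.root_step z x y a h s) hx₀ hxy hne h hu huv
    hv

theorem aop_mul {a b : Matrix (Rst k i) (Rst k i) F} (ha : Aop J H i a) (hb : Aop J H i b) : Aop J H i (a * b) :=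
  fun u w hu huw hw => by
    obtain ⟨_, _, p, q, -, -, -, -, -, hup, hwp, -, -, huq, hwq, -, -, hpq⟩ := hS.frame hu huw hw
    have hq0 : q ≠ 0 := fun e => one_ne_zero (hpq.symm.trans (by rw [e, bf, mulVec_zero, dotProduct_zero]))
    refine hS.rule u p q w (c := 0) hup huq huw (by rw [hS.swap, hwq]) (by rw [hS.swap, hwp]) hpq ?_ ?_
    · rw [Matrix.mul_zero, Matrix.zero_mul, add_zero]
      exact ha u p hu hup fun s e => one_ne_zero (hpq.symm.trans (by rw [e, bf_smul_left, huq, mul_zero]))
    · exact hb q w hq0 (by rw [hS.swap, hwq]) fun s e => one_ne_zero (hpq.symm.trans (by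
        rcases eq_or_ne s 0 with rfl | hs
        · exact absurd e (by rw [zero_smul]; exact fun e' => hw 0 (by rw [zero_smul, e']))
        · rw [show q = s⁻¹ • w by rw [e, inv_smul_smul₀ hs], bf_smul_right, hS.swap p w, hwp, mul_zero]))

theorem rootS_adj {β : Type} [Fintype β] [DecidableEq β] (l : β) {X : Matrix (Fin k) (Fin k) F} (hX : IsRootS J X) :
    adG J (sl l X) = sl l X := by
  rw [hS.adG_sl]
  congr 1
  rcases hX with ⟨v, rfl⟩ | ⟨u, v, -, rfl⟩
  · rw [hS.adjJ_rk]
  · have e : ∀ A B : Matrix (Fin k) (Fin k) F, adjJ J (A + B) = adjJ J A + adjJ J B := fun A B => by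
      rw [adjJ, adjJ, adjJ, transpose_add, mul_add, add_mul]
    rw [e, hS.adjJ_rk, hS.adjJ_rk, add_comm]

theorem inv_aop (i : Fin t) : Inv J (Aop J H i) where
  one := hS.aop_one
  add _ _ := hS.aop_add
  smul _ h s := hS.aop_smul h s
  mul _ _ := hS.aop_mul
  delta c hc l X hX := by
    have hl : l.1 ≠ i := fun e => l.2 0 e.symm
    set N := sl l X with hN
    have hNN : N * N = 0 := by
      rw [hN, sl_mul]
      rcases hX with ⟨v, rfl⟩ | ⟨u, v, huv, rfl⟩
      · rw [rk_mul_rk, hS.alt, zero_smul, sl_zero]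
      · simp only [mul_add, add_mul, rk_mul_rk, hS.alt, huv, hS.swap v u, zero_smul, add_zero, sl_zero]
    have hroot : InH H (1 + ext i N) := by
      rw [hN, ← show sl l.1 X = ext i (sl l X) from LWreath.sl_eq_ext hl X]
      rcases hX with ⟨v, rfl⟩ | ⟨u, v, huv, rfl⟩
      · exact hS.root _ v
      · exact hS.mixed _ huv
    obtain ⟨g, hg, ge⟩ := hroot
    have hNe : ext i N * ext i N = 0 := by
      rw [← LWreath.ext_mul, hNN, ← zero_smul F (0 : Matrix (Rst k i) (Rst k i) F), LWreath.ext_smul, zero_smul]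
    have hconj : Aop J H i ((1 + N) * c * (1 + N)) := fun u v hu huv hv => by
      have h1 := InH.conj (hc u v hu huv hv) hg
      rw [LWreath.inv_val_eq ge hNe, ge, sub_eq_add_neg, neg_self hS.two] at h1
      refine cast (congrArg (fun Z => InH H (1 + Z)) ?_) h1
      have e1 : ∀ w : Fin k → F, ((1 : Matrix (Fin t → Fin k) (Fin t → Fin k) F) + ext i N) * inL i w =
          inL i w * ((1 : Matrix (Rst k i) (Rst k i) F) + N) := fun w => by
        rw [Matrix.add_mul, Matrix.one_mul, LWreath.ext_mul_inL, Matrix.mul_add, Matrix.mul_one]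
      have e2 : ∀ w : Fin k → F, ov J i w * ((1 : Matrix (Fin t → Fin k) (Fin t → Fin k) F) + ext i N) =
          ((1 : Matrix (Rst k i) (Rst k i) F) + N) * ov J i w := fun w => by
        rw [Matrix.mul_add, Matrix.mul_one, ov_ext, Matrix.add_mul, Matrix.one_mul]
      have e3 : ∀ (p q : Fin k → F) (b : Matrix (Rst k i) (Rst k i) F),
          ((1 : Matrix (Fin t → Fin k) (Fin t → Fin k) F) + ext i N) * (inL i p * b * ov J i q) * (1 + ext i N) =
            inL i p * (((1 : Matrix (Rst k i) (Rst k i) F) + N) * b * (1 + N)) * ov J i q :=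
        fun p q b => by
          rw [← Matrix.mul_assoc _ (inL i p * b), ← Matrix.mul_assoc _ (inL i p), e1, Matrix.mul_assoc _ (ov J i q),
            e2]
          simp only [Matrix.mul_assoc]
      rw [Y, conj_add, e3, e3, Y, hS.adG_mul, hS.adG_mul, hS.adG_add, hS.adG_one, hN,
        hS.rootS_adj l hX, ← hN, Matrix.mul_assoc (1 + N) (adG J c)]
    have h2 := hS.aop_add hconj hc
    refine cast (congrArg (Aop J H i) ?_) h2
    rw [show (1 + N) * c * (1 + N) + c = (N * c + c * N + N * c * N) + (c + c) by noncomm_ring, dbl hS.two, add_zero]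

/-- all matrices of one of the other slots -/
def Full (J : Matrix (Fin k) (Fin k) F) (H : Subgroup (GL (Fin t → Fin k) F)) (i m : Fin t) : Prop :=
  ∀ (h : m ≠ i) (A : Matrix (Fin k) (Fin k) F), Aop J H i (sl (rs h) A)

theorem Y_sl {i m : Fin t} (h : m ≠ i) (u v : Fin k → F) (A : Matrix (Fin k) (Fin k) F) :
    Y J i u v (sl (rs h) A) = sl i (rk J u v) * sl m A + sl i (rk J v u) * sl m (adjJ J A) := by
  rw [Y, hS.adG_sl, iv_mul_ov, iv_mul_ov, ← LWreath.sl_eq_ext h, ← LWreath.sl_eq_ext h]

/-- vectors orthogonal to two vectors outside their span -/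
theorem perp2 (a d : Fin k → F) :
    ∃ b, bf J a b = 0 ∧ bf J d b = 0 ∧ b ∉ Submodule.span F (Set.range ![a, d]) := by
  let f : (Fin k → F) →ₗ[F] Fin 2 → F :=
    { toFun := fun b => ![bf J a b, bf J d b]
      map_add' := fun x y => by ext j; fin_cases j <;> simp [bf_add_right]
      map_smul' := fun s x => by ext j; fin_cases j <;> simp [bf_smul_right] }
  by_contra! h
  have hle : LinearMap.ker f ≤ Submodule.span F (Set.range ![a, d]) := fun b hb => by
    have h0 := LinearMap.mem_ker.1 hb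
    exact h b (congrFun h0 0) (congrFun h0 1)
  have h1 := Submodule.finrank_mono hle
  have h2 := finrank_range_le_card (R := F) ![a, d]
  rw [Set.finrank, Fintype.card_fin] at h2
  have h3 := f.finrank_range_add_finrank_ker
  have h4 : Module.finrank F (LinearMap.range f) ≤ 2 := (Submodule.finrank_le _).trans (by simp)
  rw [Module.finrank_fintype_fun_eq_card, Fintype.card_fin] at h3
  have := hS.dim
  omega

theorem full_symm {i m : Fin t} (h : Full J H i m) : Full J H m i := by
  intro hi A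
  have hm : m ≠ i := hi.symm
  have horth : ∀ u v, u ≠ 0 → bf J u v = 0 → (∀ s : F, v ≠ s • u) → Aop J H m (sl (rs hi) (rk J u v)) := by
    intro u v hu huv hv
    refine hS.aop_of_pair hu huv hv ?_
    have h1 := h hm (rk J u v) u v hu huv hv
    rw [hS.Y_sl hm] at h1
    rw [hS.Y_sl hi]
    rw [(sl_commute hm _ _).eq, (sl_commute hm _ _).eq]
    rwa [hS.adjJ_rk] at h1 ⊢
  have hpair : ∀ a d, Aop J H m (sl (rs hi) (rk J a d)) := fun a d => by
    rcases eq_or_ne a 0 with rfl | ha
    · rw [rk, zero_vecMulVec, sl_zero]; exact (hS.inv_aop m).zero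
    rcases eq_or_ne d 0 with rfl | hd
    · rw [rk, zero_vecMul, vecMulVec_zero, sl_zero]; exact (hS.inv_aop m).zero
    obtain ⟨b, hab, hdb, hb⟩ := hS.perp2 a d
    have hba : ∀ s : F, b ≠ s • a := fun s e => hb (e ▸ Submodule.smul_mem _ _ (Submodule.subset_span ⟨0, rfl⟩))
    have hbd : ∀ s : F, b ≠ s • d := fun s e => hb (e ▸ Submodule.smul_mem _ _ (Submodule.subset_span ⟨1, rfl⟩))
    obtain ⟨c, hdc, hbc⟩ := hS.dual2 hbd
    have h1 := hS.aop_mul (horth a b ha hab hba) (horth c d (fun e => one_ne_zero (hbc.symm.trans (by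
      rw [e, bf, mulVec_zero, dotProduct_zero]))) (by rw [hS.swap, hdc]) fun s e => ?_)
    · rwa [sl_mul, rk_mul_rk, hbc, one_smul] at h1
    · rcases eq_or_ne s 0 with rfl | hs
      · exact hd (by rw [e, zero_smul])
      · have e' : c = s⁻¹ • d := by rw [e, inv_smul_smul₀ hs]
        exact one_ne_zero (hbc.symm.trans (by rw [e', bf_smul_right, hS.swap b d, hdb, mul_zero]))
  rw [← rk_sum hS A, show sl (rs hi) (∑ b, rk J (Pi.single b 1) (A.row b ᵥ* J⁻¹)) =
    ∑ b, sl (rs hi) (rk J (Pi.single b 1) (A.row b ᵥ* J⁻¹)) from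
    map_sum (AddMonoidHom.mk' (sl (β := Rest (at1 m)) (rs hi)) (sl_add (rs hi))) _ _]
  exact (hS.inv_aop m).sum _ _ fun b _ => hpair _ _

theorem full_perm {i m : Fin t} (him : m ≠ i) (h : Full J H i m) {σ : Equiv.Perm (Fin t)}
    (hσ : Equiv.Perm.sign σ = 1) : Full J H (σ i) (σ m) := fun hne A u v hu huv hv => by
  have h1 := InH.conj (h him A u v hu huv hv) (hS.perm σ hσ)
  rw [hS.Y_sl him] at h1
  rw [hS.Y_sl hne]
  refine cast (congrArg (fun Z => InH H (1 + Z)) ?_) h1
  have e : ∀ B C, ((Asch.permU σ : GL (Fin t → Fin k) F) : Matrix (Fin t → Fin k) (Fin t → Fin k) F) *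
      (sl i B * sl m C) * (((Asch.permU σ)⁻¹ : GL (Fin t → Fin k) F) : Matrix (Fin t → Fin k) (Fin t → Fin k) F) =
      sl (σ i) B * sl (σ m) C := fun B C => by
    rw [← permU_conj σ i B, ← permU_conj σ m C]
    simp only [mul_assoc, Units.inv_mul_cancel_left]
  rw [mul_add, add_mul, e, e]

/-- all operators -/
theorem aop_all {i : Fin t} {a : Matrix (Rst k i) (Rst k i) F} (ha : Aop J H i a)
    (hns : ∀ κ : F, a ≠ κ • (1 : Matrix (Rst k i) (Rst k i) F)) :
    ∃ d : Fin t, ∀ b : Matrix (Rst k d) (Rst k d) F, Aop J H d b := by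
  classical
  obtain ⟨l, hl⟩ := exists_slot hS (hS.inv_aop i) ha hns
  have hli : l.1 ≠ i := fun e => l.2 0 e.symm
  have h0 : Full J H i l.1 := fun h A => by rw [show rs h = l from rfl]; exact hl A
  have h1 : Full J H l.1 i := hS.full_symm h0
  have hfull : ∀ j, Full J H i j := fun j => by
    rcases eq_or_ne j l.1 with rfl | hjl
    · exact h0
    intro hji
    set σ := Equiv.swap i j * Equiv.swap l.1 j with hσ
    have hs : Equiv.Perm.sign σ = 1 := by
      rw [hσ, map_mul, Equiv.Perm.sign_swap hji.symm, Equiv.Perm.sign_swap (Ne.symm hjl)]; rfl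
    have h2 := hS.full_perm hli.symm h1 hs
    have e1 : σ l.1 = i := by rw [hσ, Equiv.Perm.mul_apply, Equiv.swap_apply_left, Equiv.swap_apply_right]
    have e2 : σ i = j := by
      rw [hσ, Equiv.Perm.mul_apply, Equiv.swap_apply_of_ne_of_ne hli.symm hji.symm, Equiv.swap_apply_left]
    rw [e1, e2] at h2
    exact h2 hji
  refine ⟨i, fun b => ?_⟩
  have hmono : ∀ (s : Finset (Rest (at1 i))) (U : Rest (at1 i) → Matrix (Fin k) (Fin k) F),
      Aop J H i (mono s U) := fun s U => by
    induction s using Finset.induction_on with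
    | empty => rw [mono, Finset.piecewise_empty, tens_one]; exact hS.aop_one
    | insert j s hj ih =>
      rw [mono_insert hj]
      exact hS.aop_mul (hfull j.1 (fun e => j.2 0 e.symm) (U j)) ih
  have e : b = ∑ x, ∑ y, b x y •
      mono Finset.univ (fun l : Rest (at1 i) => (single (x l) (y l) 1 : Matrix (Fin k) (Fin k) F)) := by
    conv_lhs => rw [matrix_eq_sum_single b]
    refine Finset.sum_congr rfl fun x _ => Finset.sum_congr rfl fun y _ => ?_
    rw [mono, Finset.piecewise_univ]
    ext p q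
    simp only [Matrix.single_apply, Matrix.smul_apply, tens_apply, smul_eq_mul]
    by_cases h : x = p ∧ y = q
    · obtain ⟨rfl, rfl⟩ := h
      simp
    · rw [if_neg h]
      rcases not_and_or.1 h with h | h <;>
      · obtain ⟨l, hl⟩ := Function.ne_iff.1 h
        rw [Finset.prod_eq_zero (Finset.mem_univ l) (by simp [hl]), mul_zero]
  rw [e]
  exact (hS.inv_aop i).sum _ _ fun x _ => (hS.inv_aop i).sum _ _ fun y _ => hS.aop_smul (hmono _ _) _

theorem planeTwo {d : Fin t} (h : ∀ b : Matrix (Rst k d) (Rst k d) F, Aop J H d b) : PlaneTwo J H d := by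
  intro a x y hxy s
  set A : Matrix (Rst k d) (Rst k d) F := tens fun l : Rest (at1 d) => rk J (a l.1) (a l.1)
  have hA : adG J A = A := by
    rw [hS.adG_tens]
    congr 1
    funext l
    rw [hS.adjJ_rk]
  have key : s • tens (Function.update (fun j => rk J (a j) (a j)) d (rk J x y + rk J y x)) =
      Y J d x y (s • A) := by
    rw [hS.Y_smul, Y, hA, iv_mul_ov, iv_mul_ov, show A = tens fun l : Rest (at1 d) => rk J (a l.1) (a l.1) from rfl,
      sl_mul_ext_tens d fun j => rk J (a j) (a j), sl_mul_ext_tens d fun j => rk J (a j) (a j), tens_update_add]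
  rw [key]
  rcases eq_or_ne x 0 with rfl | hx
  · rw [Y, LWreath.inL_zero, show (ov J d (0 : Fin k → F) : Matrix _ _ F) = 0 from by
      rw [← zero_smul F (0 : Fin k → F), ov_smul, zero_smul], Matrix.zero_mul, Matrix.zero_mul, Matrix.mul_zero,
      add_zero, add_zero]
    exact ⟨1, one_mem H, rfl⟩
  by_cases hy : ∀ r : F, y ≠ r • x
  · exact h _ x y hx hxy hy
  push Not at hy
  obtain ⟨r, rfl⟩ := hy
  rw [Y, hS.adG_smul, hA, LWreath.inL_smul, ov_smul, Matrix.smul_mul, Matrix.smul_mul, Matrix.mul_smul, dbl hS.two,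
    add_zero]
  exact ⟨1, one_mem H, rfl⟩

end Setting

end Cfsg.Agent.ClassicalMax.OWreath.Two
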