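import Cfsg.Agent.ClassicalMax.LWreath.Basic
import Cfsg.Agent.ClassicalMax.SpWreath.Basic
import Cfsg.Agent.ClassicalMax.TPow.SpDecomp

/-!
Characteristic two: subgroups of the isometry group of a tensor power of an alternating form containing the slot root
elements and the even permutations of the slots. Inclusions and contractions of slots, adjoints, plane elements.
-/

set_option autoImplicit false
set_option linter.unusedSectionVars false

namespace Cfsg.Agent.ClassicalMax.OWreath.Two

open Matrix Cfsg.Agent.ClassicalMax.TPow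
open Cfsg.Agent.ClassicalMax.LWreath (Rst at1_inj at1 inL outL ext outL_inL inL_outL inL_mul_outL fu InH)
open Cfsg.Agent.ClassicalMax.SpWreath (GV GV_det)

variable {F : Type*} [Field F] [Finite F] {k t : ℕ} {J : Matrix (Fin k) (Fin k) F}
  {H : Subgroup (GL (Fin t → Fin k) F)} {i : Fin t}

/-- the contraction of a slot with a vector -/
noncomputable def ov (J : Matrix (Fin k) (Fin k) F) (i : Fin t) (u : Fin k → F) :
    Matrix (Rst k i) (Fin t → Fin k) F := outL i (u ᵥ* J)

theorem ov_iv (u v : Fin k → F) : ov J i u * inL i v = bf J u v • (1 : Matrix (Rst k i) (Rst k i) F) := by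
  rw [ov, outL_inL, bf, dotProduct_mulVec]

theorem ov_iv_mul {ν : Type} (u v : Fin k → F) (P : Matrix (Rst k i) ν F) :
    ov J i u * (inL i v * P) = bf J u v • P := by
  rw [← Matrix.mul_assoc, ov_iv, Matrix.smul_mul, Matrix.one_mul]

theorem ov_add (u v : Fin k → F) : ov J i (u + v) = ov J i u + ov J i v := by
  rw [ov, add_vecMul, LWreath.outL_add]; rfl

theorem ov_smul (c : F) (u : Fin k → F) : ov J i (c • u) = c • ov J i u := by
  rw [ov, smul_vecMul, LWreath.outL_smul]; rfl

theorem iv_ov (u v : Fin k → F) : inL i u * ov J i v = sl i (rk J u v) := inL_outL i u _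

theorem iv_mul_ov (u v : Fin k → F) (N : Matrix (Rst k i) (Rst k i) F) :
    inL i u * N * ov J i v = sl i (rk J u v) * ext i N := inL_mul_outL i u _ N

theorem sl_iv (A : Matrix (Fin k) (Fin k) F) (u : Fin k → F) : sl i A * inL i u = inL i (A *ᵥ u) :=
  LWreath.sl_mul_inL i A u

theorem ov_ext (u : Fin k → F) (N : Matrix (Rst k i) (Rst k i) F) : ov J i u * ext i N = N * ov J i u :=
  LWreath.outL_mul_ext i N _

/-- the adjoint with respect to the form -/
noncomputable def adG (J : Matrix (Fin k) (Fin k) F) {β : Type} [Fintype β] [DecidableEq β]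
    (M : Matrix (β → Fin k) (β → Fin k) F) : Matrix (β → Fin k) (β → Fin k) F := adjJ (GV J) M

/-- the characteristic is two, the form is alternating, the slots have dimension at least six and the group consists
of isometries and contains the slot root elements and the even permutations of the slots -/
structure Setting (J : Matrix (Fin k) (Fin k) F) (H : Subgroup (GL (Fin t → Fin k) F)) : Prop where
  two : (2 : F) = 0
  alt : ∀ u, bf J u u = 0
  det : IsUnit J.det
  dim : 6 ≤ k
  iso : ∀ g ∈ H, (g : Matrix (Fin t → Fin k) (Fin t → Fin k) F)ᵀ * GV J *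
    (g : Matrix (Fin t → Fin k) (Fin t → Fin k) F) = GV J
  root : ∀ (i : Fin t) (u : Fin k → F), InH H (1 + sl i (rk J u u))
  perm : ∀ σ : Equiv.Perm (Fin t), Equiv.Perm.sign σ = 1 → Asch.permU (F := F) (m := k) σ ∈ H

theorem dbl (h2 : (2 : F) = 0) {ν μ : Type} (Z : Matrix ν μ F) : Z + Z = 0 := by
  rw [← two_smul F Z, h2, zero_smul]

theorem neg_self (h2 : (2 : F) = 0) {ν μ : Type} (Z : Matrix ν μ F) : -Z = Z :=
  (eq_neg_of_add_eq_zero_left (dbl h2 Z)).symm

theorem sq_one (h2 : (2 : F) = 0) {ν : Type} [Fintype ν] [DecidableEq ν] {X : Matrix ν ν F} (h : X * X = 0) :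
    (1 + X) * (1 + X) = 1 := by
  rw [mul_add, mul_one, add_mul, one_mul, h, add_zero, add_assoc, dbl h2, add_zero]

namespace Setting

variable (hS : Setting J H)
include hS

theorem swap (u v : Fin k → F) : bf J u v = bf J v u := by
  have h := hS.alt (u + v)
  rw [bf_add_left, bf_add_right, bf_add_right, hS.alt, hS.alt, zero_add, add_zero] at h
  linear_combination h - bf J v u * hS.two

theorem skew : Jᵀ = -J := by
  ext a b
  have h := hS.swap (Pi.single b 1) (Pi.single a 1)
  simp only [bf, mulVec_single_one, single_dotProduct, one_mul, Matrix.col_apply] at h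
  rw [Matrix.transpose_apply, Matrix.neg_apply, h]
  linear_combination J a b * hS.two

theorem symmJ : Jᵀ = J := by rw [hS.skew, neg_self hS.two]

theorem symmG {β : Type} [Fintype β] [DecidableEq β] : (GV J (β := β))ᵀ = GV J := by
  rw [GV, tens_transpose]
  simp only [hS.symmJ]

theorem detG {β : Type} [Fintype β] [DecidableEq β] : IsUnit (GV J (β := β)).det := GV_det hS.det

theorem cancelG {β ν : Type} [Fintype β] [DecidableEq β] {A B : Matrix (β → Fin k) ν F}
    (h : GV J (β := β) * A = GV J (β := β) * B) : A = B := by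
  have e := congrArg ((GV J (β := β))⁻¹ * ·) h
  simpa [← Matrix.mul_assoc, nonsing_inv_mul _ hS.detG] using e

theorem adG_spec {β : Type} [Fintype β] [DecidableEq β] (M : Matrix (β → Fin k) (β → Fin k) F) :
    GV J * adG J M = Mᵀ * GV J := by
  rw [adG, adjJ, ← mul_assoc, ← mul_assoc, mul_nonsing_inv _ hS.detG, one_mul]

theorem adG_eq {β : Type} [Fintype β] [DecidableEq β] {M Z : Matrix (β → Fin k) (β → Fin k) F}
    (h : Mᵀ * GV J = GV J * Z) : adG J M = Z := hS.cancelG (by rw [hS.adG_spec, h])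

theorem adG_adG {β : Type} [Fintype β] [DecidableEq β] (M : Matrix (β → Fin k) (β → Fin k) F) :
    adG J (adG J M) = M :=
  adjJ_adjJ (by rw [hS.symmG, neg_self hS.two]) hS.detG M

theorem adG_mul {β : Type} [Fintype β] [DecidableEq β] (M N : Matrix (β → Fin k) (β → Fin k) F) :
    adG J (M * N) = adG J N * adG J M := hS.adG_eq (by
  rw [transpose_mul, mul_assoc, ← hS.adG_spec, ← mul_assoc, ← hS.adG_spec, mul_assoc])

theorem adG_add {β : Type} [Fintype β] [DecidableEq β] (M N : Matrix (β → Fin k) (β → Fin k) F) :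
    adG J (M + N) = adG J M + adG J N := hS.adG_eq (by
  rw [transpose_add, add_mul, mul_add, hS.adG_spec, hS.adG_spec])

theorem adG_one {β : Type} [Fintype β] [DecidableEq β] : adG J (1 : Matrix (β → Fin k) (β → Fin k) F) = 1 :=
  hS.adG_eq (by rw [transpose_one, one_mul, mul_one])

theorem adG_smul {β : Type} [Fintype β] [DecidableEq β] (c : F) (M : Matrix (β → Fin k) (β → Fin k) F) :
    adG J (c • M) = c • adG J M := hS.adG_eq (by
  rw [transpose_smul, smul_mul_assoc, mul_smul_comm, hS.adG_spec])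

theorem adG_tens {β : Type} [Fintype β] [DecidableEq β] (T : β → Matrix (Fin k) (Fin k) F) :
    adG J (tens T) = tens fun l => adjJ J (T l) := hS.adG_eq (by
  rw [tens_transpose, GV, tens_mul, tens_mul]
  congr 1
  funext l
  rw [Pi.mul_apply, Pi.mul_apply, adjJ, ← mul_assoc, ← mul_assoc, mul_nonsing_inv _ hS.det, one_mul])

theorem adjJ_rk (u v : Fin k → F) : adjJ J (rk J u v) = rk J v u := by
  rw [adjJ, mul_assoc, rk_transpose J (ε := (1 : F)) (by rw [hS.symmJ, one_smul]), one_smul, ← mul_assoc,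
    nonsing_inv_mul _ hS.det, one_mul]

theorem adG_sl {β : Type} [Fintype β] [DecidableEq β] (l : β) (A : Matrix (Fin k) (Fin k) F) :
    adG J (sl l A) = sl l (adjJ J A) := by
  rw [sl, hS.adG_tens, sl]
  congr 1
  funext j
  rcases eq_or_ne j l with rfl | hj
  · simp
  · simp [hj, adjJ, nonsing_inv_mul _ hS.det]

/-- the transpose of an inclusion -/
theorem iv_transpose (u : Fin k → F) : (inL i u)ᵀ * GV J (β := Fin t) = GV J (β := Rest (at1 i)) * ov J i u := by
  have e : GV J (β := Fin t) = emb (at1_inj i) (GV J (β := Fin 1)) (GV J) :=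
    (emb_tens (at1_inj i) fun _ => J).symm
  rw [e, inL, inM_transpose_mul]
  congr 1
  ext y x
  simp only [outM, ov, outL, Matrix.of_apply, vecMul_one]
  split_ifs
  · simp only [vecMul, dotProduct, fu, GV, tens_apply, Fin.prod_univ_one]
    exact Equiv.sum_comp (Equiv.funUnique (Fin 1) (Fin k)) fun a => u a * J a ((split (at1_inj i) x).1 0)
  · rfl

/-- the transpose of a contraction -/
theorem ov_transpose (u : Fin k → F) : (ov J i u)ᵀ * GV J (β := Rest (at1 i)) = GV J (β := Fin t) * inL i u := by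
  have h := congrArg Matrix.transpose (hS.iv_transpose (i := i) u)
  rw [transpose_mul, transpose_mul, transpose_transpose, hS.symmG, hS.symmG] at h
  exact h.symm

theorem adG_ext (N : Matrix (Rst k i) (Rst k i) F) : adG J (ext i N) = ext i (adG J N) := hS.adG_eq (by
  have e : GV J (β := Fin t) = emb (at1_inj i) (GV J (β := Fin 1)) (GV J (β := Rest (at1 i))) :=
    (emb_tens (at1_inj i) fun _ => J).symm
  rw [e, LWreath.ext, LWreath.ext, emb_transpose, emb_mul, emb_mul, transpose_one, one_mul, mul_one, hS.adG_spec])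

theorem adG_iv_ov (u v : Fin k → F) (a : Matrix (Rst k i) (Rst k i) F) :
    adG J (inL i u * a * ov J i v) = inL i v * adG J a * ov J i u := by
  rw [iv_mul_ov, hS.adG_mul, hS.adG_sl, hS.adG_ext, hS.adjJ_rk, iv_mul_ov, (LWreath.ext_commute i _ _).eq]

/-- the adjoint of a compressed operator -/
theorem adG_comp (u w : Fin k → F) (Y : Matrix (Fin t → Fin k) (Fin t → Fin k) F) :
    adG J (ov J i u * Y * inL i w) = ov J i w * adG J Y * inL i u := hS.adG_eq (by
  rw [transpose_mul, transpose_mul, Matrix.mul_assoc, Matrix.mul_assoc, hS.ov_transpose,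
    ← Matrix.mul_assoc Yᵀ, ← hS.adG_spec, Matrix.mul_assoc, ← Matrix.mul_assoc, hS.iv_transpose]
  simp only [Matrix.mul_assoc])

/-- the inverse of an element is its adjoint -/
theorem inv_eq {g : GL (Fin t → Fin k) F} (hg : g ∈ H) :
    ((g⁻¹ : GL (Fin t → Fin k) F) : Matrix (Fin t → Fin k) (Fin t → Fin k) F) =
      adG J (g : Matrix (Fin t → Fin k) (Fin t → Fin k) F) := by
  refine (hS.adG_eq ?_).symm
  calc (g : Matrix (Fin t → Fin k) (Fin t → Fin k) F)ᵀ * GV J
      = (g : Matrix (Fin t → Fin k) (Fin t → Fin k) F)ᵀ * GV J * ((g : Matrix (Fin t → Fin k) (Fin t → Fin k) F) *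
        ((g⁻¹ : GL (Fin t → Fin k) F) : Matrix (Fin t → Fin k) (Fin t → Fin k) F)) := by
          rw [← Units.val_mul, mul_inv_cancel, Units.val_one, mul_one]
    _ = _ := by rw [← mul_assoc, hS.iso g hg]

/-- the nilpotent part of an involution is self-adjoint -/
theorem adG_inH {D : Matrix (Fin t → Fin k) (Fin t → Fin k) F} (h : InH H (1 + D)) (hDD : D * D = 0) :
    adG J D = D := by
  obtain ⟨g, hg, ge⟩ := h
  have h1 := hS.inv_eq hg
  rw [ge, LWreath.inv_val_eq ge hDD, hS.adG_add, hS.adG_one, sub_eq_add_neg, neg_self hS.two] at h1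
  exact (add_left_cancel h1).symm

/-- the root of a pair of orthogonal vectors -/
theorem mixed (l : Fin t) {u v : Fin k → F} (h : bf J u v = 0) : InH H (1 + sl l (rk J u v + rk J v u)) := by
  have hvu : bf J v u = 0 := by rw [hS.swap, h]
  have h1 := ((hS.root l (u + v)).add (hS.root l u) ?_).add (hS.root l v) ?_
  · refine cast (congrArg (fun Z => InH H (1 + Z)) ?_) h1
    rw [← sl_add, ← sl_add, rk_add_left, rk_add_right, rk_add_right]
    congr 1
    rw [show rk J u u + rk J u v + (rk J v u + rk J v v) + rk J u u + rk J v v =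
      rk J u v + rk J v u + (rk J u u + rk J u u) + (rk J v v + rk J v v) by abel, dbl hS.two, dbl hS.two, add_zero,
      add_zero]
  · rw [sl_mul, rk_mul_rk, bf_add_left, hS.alt, hvu, add_zero, zero_smul, sl_zero]
  · rw [add_mul, sl_mul, sl_mul, rk_mul_rk, rk_mul_rk, bf_add_left, hS.alt, h, add_zero, zero_smul, zero_smul,
      sl_zero, add_zero]

/-- a vector orthogonal to the first and pairing with the second -/
theorem dual2 {u v : Fin k → F} (h : ∀ s : F, v ≠ s • u) : ∃ w, bf J u w = 0 ∧ bf J v w = 1 := by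
  by_cases hu : u = 0
  · obtain ⟨w, hw⟩ := exists_bf_ne J hS.det (show v ≠ 0 from fun e => h 0 (by rw [e, zero_smul]))
    exact ⟨(bf J v w)⁻¹ • w, by rw [hu, bf, zero_dotProduct], by rw [bf_smul_right, inv_mul_cancel₀ hw]⟩
  obtain ⟨z₀, hz₀⟩ := exists_bf_ne J hS.det hu
  obtain ⟨z, hz⟩ := exists_bf_ne J hS.det (show v + (-(bf J v z₀ / bf J u z₀)) • u ≠ 0 from fun e =>
    h (bf J v z₀ / bf J u z₀) (by linear_combination (norm := module) e))
  set w := z + (-(bf J u z / bf J u z₀)) • z₀ with hw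
  have h1 : bf J u w = 0 := by rw [hw, bf_add_right, bf_smul_right, neg_mul, div_mul_cancel₀ _ hz₀, add_neg_cancel]
  have h2 : bf J v w ≠ 0 := by
    rw [hw, bf_add_right, bf_smul_right]
    rw [bf_add_left, bf_smul_left] at hz
    intro e
    apply hz
    rw [← e]
    field_simp
  exact ⟨(bf J v w)⁻¹ • w, by rw [bf_smul_right, h1, mul_zero], by rw [bf_smul_right, inv_mul_cancel₀ h2]⟩

/-- a vector outside a span of few vectors -/
theorem exists_outside {m : ℕ} (hm : m < k) (f : Fin m → Fin k → F) :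
    ∃ w, w ∉ Submodule.span F (Set.range f) := by
  by_contra! h
  have h1 := Submodule.finrank_mono (show (⊤ : Submodule F (Fin k → F)) ≤ Submodule.span F (Set.range f) from
    fun z _ => h z)
  rw [finrank_top, Module.finrank_fintype_fun_eq_card, Fintype.card_fin] at h1
  have h2 := finrank_range_le_card (R := F) f
  rw [Set.finrank, Fintype.card_fin] at h2
  omega

/-- duals of an orthogonal pair and a hyperbolic pair orthogonal to all four -/
theorem frame {u w : Fin k → F} (hu : u ≠ 0) (huw : bf J u w = 0) (hw : ∀ s : F, w ≠ s • u) :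
    ∃ u' w' p q : Fin k → F, bf J u u' = 1 ∧ bf J w w' = 1 ∧ bf J u w' = 0 ∧ bf J w u' = 0 ∧ bf J u' w' = 0 ∧
      bf J u p = 0 ∧ bf J w p = 0 ∧ bf J u' p = 0 ∧ bf J w' p = 0 ∧
      bf J u q = 0 ∧ bf J w q = 0 ∧ bf J u' q = 0 ∧ bf J w' q = 0 ∧ bf J p q = 1 := by
  have hw0 : w ≠ 0 := fun e => hw 0 (by rw [e, zero_smul])
  have hu' : ∀ s : F, u ≠ s • w := fun s e => by
    rcases eq_or_ne s 0 with rfl | hs
    · exact hu (by rw [e, zero_smul])
    · exact hw s⁻¹ (by rw [e, inv_smul_smul₀ hs])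
  obtain ⟨a, ha1, ha2⟩ := hS.dual2 hu'
  obtain ⟨b, hb1, hb2⟩ := hS.dual2 hw
  set u' := a + bf J a b • w with hu'd
  have e1 : bf J u u' = 1 := by rw [hu'd, bf_add_right, bf_smul_right, ha2, huw, mul_zero, add_zero]
  have e2 : bf J w u' = 0 := by rw [hu'd, bf_add_right, bf_smul_right, ha1, hS.alt, mul_zero, add_zero]
  have e3 : bf J u' b = 0 := by
    rw [hu'd, bf_add_left, bf_smul_left, hb2, mul_one]
    linear_combination bf J a b * hS.two
  let P : (Fin k → F) → (Fin k → F) := fun z =>
    z + bf J u' z • u + bf J u z • u' + bf J b z • w + bf J w z • b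
  have hP : ∀ z, bf J u (P z) = 0 ∧ bf J w (P z) = 0 ∧ bf J u' (P z) = 0 ∧ bf J b (P z) = 0 := fun z => by
    refine ⟨?_, ?_, ?_, ?_⟩ <;>
      simp only [P, bf_add_right, bf_smul_right, hS.alt, huw, hb1, hb2, e1, e2, e3, hS.swap w u, hS.swap u' u,
        hS.swap b u, hS.swap u' w, hS.swap b u', hS.swap b w]
    · linear_combination bf J u z * hS.two
    · linear_combination bf J w z * hS.two
    · linear_combination bf J u' z * hS.two
    · linear_combination bf J b z * hS.two
  obtain ⟨z, hz⟩ := exists_outside hS (m := 4) (by have := hS.dim; omega) ![u, u', w, b]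
  have hp0 : P z ≠ 0 := fun e => hz (by
    have e' : z = -(bf J u' z) • u + -(bf J u z) • u' + -(bf J b z) • w + -(bf J w z) • b := by
      simp only [P] at e
      linear_combination (norm := module) e
    rw [e']
    refine Submodule.add_mem _ (Submodule.add_mem _ (Submodule.add_mem _ ?_ ?_) ?_) ?_ <;>
      refine Submodule.smul_mem _ _ (Submodule.subset_span ?_)
    exacts [⟨0, rfl⟩, ⟨1, rfl⟩, ⟨2, rfl⟩, ⟨3, rfl⟩])
  obtain ⟨q, hq⟩ := exists_bf_ne J hS.det hp0
  obtain ⟨p1, p2, p3, p4⟩ := hP z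
  refine ⟨u', b, P z, (bf J (P z) q)⁻¹ • P q, e1, hb2, hb1, e2, e3, p1, p2, p3, p4, ?_, ?_, ?_, ?_, ?_⟩
  · rw [bf_smul_right, (hP q).1, mul_zero]
  · rw [bf_smul_right, (hP q).2.1, mul_zero]
  · rw [bf_smul_right, (hP q).2.2.1, mul_zero]
  · rw [bf_smul_right, (hP q).2.2.2, mul_zero]
  · rw [bf_smul_right, show bf J (P z) (P q) = bf J (P z) q from ?_, inv_mul_cancel₀ hq]
    conv_lhs => arg 3; simp only [P]
    simp only [bf_add_right, bf_smul_right, hS.swap (P z) u, hS.swap (P z) u', hS.swap (P z) w, hS.swap (P z) b,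
      p1, p2, p3, p4, mul_zero, add_zero]

/-- a relation on orthogonal pairs kept by the moves of the slot roots holds for all pairs or none -/
theorem pairs {M : (Fin k → F) → (Fin k → F) → Prop}
    (hstep : ∀ x y z, M x y → ∀ s : F, M (x + (s * bf J z x) • z) (y + (s * bf J z y) • z)) {x₀ y₀ : Fin k → F}
    (hx₀ : x₀ ≠ 0) (hxy : bf J x₀ y₀ = 0) (hne : ∀ s : F, y₀ ≠ s • x₀) (h0 : M x₀ y₀) {x y : Fin k → F}
    (hx : x ≠ 0) (hxy' : bf J x y = 0) (hy : ∀ s : F, y ≠ s • x) : M x y := by
  have hind : ∀ {x y : Fin k → F} (z : Fin k → F) (s : F), (∀ c : F, y ≠ c • x) →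
      ∀ c : F, y + (s * bf J z y) • z ≠ c • (x + (s * bf J z x) • z) := fun {x y} z s h c e => by
    have h1 : bf J z y = c * bf J z x := by
      have := congrArg (bf J z) e
      simp only [bf_add_right, bf_smul_right, hS.alt, mul_zero, add_zero] at this
      exact this
    exact h c (by rw [h1] at e; linear_combination (norm := module) e)
  have horth : ∀ {x y : Fin k → F} (z : Fin k → F) (s : F), bf J x y = 0 →
      bf J (x + (s * bf J z x) • z) (y + (s * bf J z y) • z) = 0 := fun {x y} z s h => by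
    simp only [bf_add_left, bf_add_right, bf_smul_left, bf_smul_right, hS.alt, h, hS.swap x z]
    linear_combination (s * bf J z y * bf J z x) * hS.two
  have hcommon : ∀ {p q : Fin k → F}, p ≠ 0 → q ≠ 0 → ∃ c, bf J p c ≠ 0 ∧ bf J q c ≠ 0 := fun {p q} hp hq => by
    obtain ⟨a, ha⟩ := exists_bf_ne J hS.det hp
    obtain ⟨b, hb⟩ := exists_bf_ne J hS.det hq
    by_cases h1 : bf J q a = 0
    · by_cases h0 : bf J p b = 0
      · exact ⟨a + b, by rwa [bf_add_right, h0, add_zero], by rwa [bf_add_right, h1, zero_add]⟩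
      · exact ⟨b, h0, hb⟩
    · exact ⟨a, ha, h1⟩
  have one : ∀ {p p' q}, bf J p p' ≠ 0 → M p q → bf J p q = 0 → (∀ c : F, q ≠ c • p) →
      ∃ q', M p' q' ∧ bf J p' q' = 0 ∧ ∀ c : F, q' ≠ c • p' := fun {p p' q} hb h ho hi => by
    set z := p' + (-1 : F) • p with hz
    have hzp : bf J z p = bf J p' p := by rw [hz, bf_add_left, bf_smul_left, hS.alt, mul_zero, add_zero]
    have e : p + ((bf J p' p)⁻¹ * bf J z p) • z = p' := by
      rw [hzp, inv_mul_cancel₀ (by rwa [hS.swap]), one_smul, hz]; module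
    have h1 := hstep p q z h (bf J p' p)⁻¹
    have h2 := horth z (bf J p' p)⁻¹ ho
    have h3 := hind z (bf J p' p)⁻¹ hi
    rw [e] at h1 h2 h3
    exact ⟨_, h1, h2, h3⟩
  obtain ⟨c, hc₀, hc⟩ := hcommon hx₀ hx
  obtain ⟨q, hq, ho, hi⟩ := one hc₀ h0 hxy hne
  obtain ⟨y', hy', hxy'', hy'i⟩ := one (show bf J c x ≠ 0 by rwa [hS.swap]) hq ho hi
  have hsecond : ∀ {p q}, bf J x p = 0 → bf J x q = 0 → bf J p q ≠ 0 → M x p → M x q := fun {p q} hp hq hb h => by
    set z := q + (-1 : F) • p with hz
    have hzx : bf J z x = 0 := by rw [hz, bf_add_left, bf_smul_left, hS.swap q x, hS.swap p x, hp, hq]; simp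
    have hzp : bf J z p = bf J q p := by rw [hz, bf_add_left, bf_smul_left, hS.alt, mul_zero, add_zero]
    have h1 := hstep x p z h (bf J q p)⁻¹
    rwa [hzx, mul_zero, zero_smul, add_zero, hzp, inv_mul_cancel₀ (by rwa [hS.swap]), one_smul,
      show p + z = q by rw [hz]; module] at h1
  obtain ⟨c, hxc, h1, h2⟩ : ∃ c, bf J x c = 0 ∧ bf J y' c ≠ 0 ∧ bf J y c ≠ 0 := by
    obtain ⟨a, hxa, ha⟩ := hS.dual2 hy'i
    obtain ⟨b, hxb, hb⟩ := hS.dual2 hy
    by_cases h1 : bf J y a = 0
    · by_cases h0 : bf J y' b = 0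
      · exact ⟨a + b, by rw [bf_add_right, hxa, hxb, add_zero], by rw [bf_add_right, h0, add_zero, ha]; exact one_ne_zero,
          by rw [bf_add_right, h1, zero_add, hb]; exact one_ne_zero⟩
      · exact ⟨b, hxb, h0, by rw [hb]; exact one_ne_zero⟩
    · exact ⟨a, hxa, by rw [ha]; exact one_ne_zero, h1⟩
  exact hsecond hxc hxy' (by rwa [hS.swap]) (hsecond hxy'' hxc h1 hy')

end Setting

end Cfsg.Agent.ClassicalMax.OWreath.Two
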