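import Mathlib

/-!
Two involutions in a finite group: they are conjugate inside the dihedral group they generate, or this group has a
central involution, with the conjugacies between the involutions and their products with it.
-/

set_option autoImplicit false
set_option linter.unusedSectionVars false

namespace Cfsg.Agent.ClassicalMax.OWreath.Two

variable {G : Type*} [Group G] [Finite G]

/-- two involutions: conjugate, or a central involution in two situations -/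
theorem dihedral_cases {x y : G} (hx : x * x = 1) (hy : y * y = 1) :
    (∃ d ∈ Subgroup.closure ({x, y} : Set G), d * x * d⁻¹ = y) ∨
    ∃ ζ ∈ Subgroup.closure ({x, y} : Set G), ζ ≠ 1 ∧ ζ * ζ = 1 ∧ Commute ζ x ∧ Commute ζ y ∧
      ((∃ h ∈ Subgroup.closure ({x, y} : Set G), Commute h ζ ∧ x * h * x = h⁻¹ ∧ h * (x * ζ) * h⁻¹ = y) ∨
       ((∃ r ∈ Subgroup.closure ({x, y} : Set G), r * r = 1 ∧ r * x * r = x * ζ ∧
          ∃ d ∈ Subgroup.closure ({x, y} : Set G), r = d * x * d⁻¹ ∨ r = d * y * d⁻¹) ∧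
        ∃ d ∈ Subgroup.closure ({x, y} : Set G), d * y * d⁻¹ = y * ζ)) := by
  set K := Subgroup.closure ({x, y} : Set G) with hK
  have hxK : x ∈ K := Subgroup.subset_closure (Set.mem_insert _ _)
  have hyK : y ∈ K := Subgroup.subset_closure (Set.mem_insert_of_mem _ rfl)
  have hxi : x⁻¹ = x := inv_eq_of_mul_eq_one_right hx
  have hyi : y⁻¹ = y := inv_eq_of_mul_eq_one_right hy
  set g := x * y with hg
  have hgK : g ∈ K := mul_mem hxK hyK
  have hgi : x * g * x = g⁻¹ := by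
    rw [hg, _root_.mul_inv_rev, hxi, hyi, ← mul_assoc x x y, hx, one_mul]
  -- powers and the reflection
  have hxz : ∀ j : ℤ, x * g ^ j * x = g ^ (-j) := fun j => by
    have h := map_zpow (MulAut.conj x).toMonoidHom g j
    simp only [MulEquiv.coe_toMonoidHom, MulAut.conj_apply, hxi] at h
    rw [h, hgi, inv_zpow, zpow_neg]
  have hxz' : ∀ j : ℤ, x * g ^ j = g ^ (-j) * x := fun j => by
    rw [← hxz, mul_assoc _ x x, hx, mul_one]
  have hgg : ∀ a b : ℤ, g ^ a * x * (g ^ b * x) = g ^ (a - b) := fun a b => by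
    rw [mul_assoc, ← mul_assoc x, hxz, ← zpow_add, sub_eq_add_neg]
  have hconj : ∀ j a : ℤ, g ^ j * (g ^ a * x) * (g ^ j)⁻¹ = g ^ (2 * j + a) * x := fun j a => by
    rw [← zpow_neg, mul_assoc (g ^ j), mul_assoc (g ^ a), hxz', neg_neg, ← mul_assoc, ← mul_assoc, ← zpow_add,
      ← zpow_add]
    congr 2
    ring
  have hx0 : x = g ^ (0 : ℤ) * x := by rw [zpow_zero, one_mul]
  have hy1 : y = g ^ (-1 : ℤ) * x := by
    rw [zpow_neg_one, hg, _root_.mul_inv_rev, hxi, hyi, mul_assoc, hx, mul_one]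
  have heq : ∀ a b : ℤ, (orderOf g : ℤ) ∣ a - b → g ^ a = g ^ b := fun a b h =>
    zpow_eq_zpow_iff_modEq.2 (Int.modEq_iff_dvd.2 (by simpa using (dvd_neg.2 h)))
  obtain ⟨m, hm⟩ | ⟨m, hm⟩ := Nat.even_or_odd (orderOf g)
  swap
  · left
    refine ⟨g ^ (m : ℤ), zpow_mem hgK _, ?_⟩
    conv_lhs => arg 1; arg 2; rw [hx0]
    rw [hconj, hy1, heq (2 * (m : ℤ) + 0) (-1) ⟨1, by rw [hm]; push_cast; ring⟩]
  right
  have hnm : (orderOf g : ℤ) = 2 * m := by rw [hm]; push_cast; ring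
  set ζ := g ^ (m : ℤ) with hζ
  have hζi : ζ⁻¹ = ζ := by rw [hζ, ← zpow_neg]; exact heq _ _ ⟨-1, by rw [hnm]; ring⟩
  have hζ1 : ζ ≠ 1 := by
    have hpos := orderOf_pos g
    rw [hζ, zpow_natCast]
    exact pow_ne_one_of_lt_orderOf (by omega) (by omega)
  have hζx : Commute ζ x := by
    show ζ * x = x * ζ
    rw [hζ, hxz', ← zpow_neg] at *
    rw [hζi]
  refine ⟨ζ, zpow_mem hgK _, hζ1, by rw [← hζi]; nth_rewrite 2 [hζi]; exact inv_mul_cancel ζ, hζx, ?_, ?_⟩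
  · rw [hy1]
    exact ((Commute.refl g).zpow_zpow _ _).mul_right hζx
  have hxζ : x * ζ = g ^ (-(m : ℤ)) * x := hxz' _
  have hyζ : y * ζ = g ^ (-1 - (m : ℤ)) * x := by
    rw [hy1, mul_assoc, hxζ, ← mul_assoc, ← zpow_add, sub_eq_add_neg]
  obtain ⟨s, hs⟩ | ⟨s, hs⟩ := Nat.even_or_odd m
  swap
  · left
    refine ⟨g ^ (s : ℤ), zpow_mem hgK _, (Commute.refl g).zpow_zpow _ _, by rw [hxz, zpow_neg], ?_⟩
    rw [hxζ, hconj, hy1, heq (2 * (s : ℤ) + -(m : ℤ)) (-1) ⟨0, by rw [hs]; push_cast; ring⟩]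
  right
  refine ⟨⟨g ^ (s : ℤ) * x, mul_mem (zpow_mem hgK _) hxK, ?_, ?_, ?_⟩, g ^ (s : ℤ), zpow_mem hgK _, ?_⟩
  · rw [hgg, sub_self, zpow_zero]
  · rw [hxζ]
    conv_lhs => arg 1; arg 2; rw [hx0]
    rw [hgg, ← mul_assoc, ← zpow_add, heq ((s : ℤ) - 0 + s) (-(m : ℤ)) ⟨1, by rw [hnm, hs]; push_cast; ring⟩]
  · obtain ⟨e, he⟩ | ⟨e, he⟩ := Nat.even_or_odd s
    · refine ⟨g ^ (e : ℤ), zpow_mem hgK _, Or.inl ?_⟩
      conv_rhs => arg 1; arg 2; rw [hx0]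
      rw [hconj, heq (s : ℤ) (2 * (e : ℤ) + 0) ⟨0, by rw [he]; push_cast; ring⟩]
    · refine ⟨g ^ ((e : ℤ) + 1), zpow_mem hgK _, Or.inr ?_⟩
      rw [hy1, hconj, heq (s : ℤ) (2 * ((e : ℤ) + 1) + -1) ⟨0, by rw [he]; push_cast; ring⟩]
  · rw [hyζ, hy1, hconj, heq (2 * (s : ℤ) + -1) (-1 - (m : ℤ)) ⟨1, by rw [hnm, hs]; push_cast; ring⟩]

end Cfsg.Agent.ClassicalMax.OWreath.Two
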