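import Cfsg.Agent.ClassicalMax.OWreath.Two.Rank

/-!
Characteristic two, all attached operators scalar: an involution of smallest rank that maps a slot subspace of a vector
to itself is a slot root element.
-/

set_option autoImplicit false
set_option linter.unusedSectionVars false

namespace Cfsg.Agent.ClassicalMax.OWreath.Two

open Matrix Cfsg.Agent.ClassicalMax.TPow
open Cfsg.Agent.ClassicalMax.LWreath (Rst at1_inj at1 inL outL ext outL_inL inL_outL inL_mul_outL fu InH rs)
open Cfsg.Agent.ClassicalMax.SpWreath (GV GV_det)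

variable {F : Type*} [Field F] [Finite F] {k t : ℕ} {J : Matrix (Fin k) (Fin k) F}
  {H : Subgroup (GL (Fin t → Fin k) F)} {i : Fin t}

/-- all attached operators are scalar -/
def Rigid (J : Matrix (Fin k) (Fin k) F) (H : Subgroup (GL (Fin t → Fin k) F)) : Prop :=
  ∀ (i : Fin t) (a : Matrix (Rst k i) (Rst k i) F), Aop J H i a → ∃ κ : F, a = κ • 1

/-- the element centralises the slots of a set -/
def Cen (T : Finset (Fin t)) (y : GL (Fin t → Fin k) F) : Prop :=
  ∀ j ∈ T, ∀ A : Matrix (Fin k) (Fin k) F, Commute (y : Matrix (Fin t → Fin k) (Fin t → Fin k) F) (sl j A)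

/-- an involution of smallest rank centralising the slots of a set -/
structure Small (J : Matrix (Fin k) (Fin k) F) (H : Subgroup (GL (Fin t → Fin k) F)) (T : Finset (Fin t))
    (y : GL (Fin t → Fin k) F) : Prop where
  mem : y ∈ H
  sq : y * y = 1
  cen : Cen T y
  rank : (nl y).rank = NN k t

/-- the element is a slot root element -/
def Slot (J : Matrix (Fin k) (Fin k) F) (y : GL (Fin t → Fin k) F) : Prop :=
  ∃ (l : Fin t) (p : Fin k → F), p ≠ 0 ∧
    (y : Matrix (Fin t → Fin k) (Fin t → Fin k) F) = 1 + sl l (rk J p p)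

theorem InH.sq1 (h2 : (2 : F) = 0) {X Z : Matrix (Fin t → Fin k) (Fin t → Fin k) F} (hX : InH H (1 + X))
    (hZ : InH H (1 + Z)) (hXX : X * X = 0) (hZZ : Z * Z = 0) (hZXZ : Z * X * Z = 0) :
    InH H (1 + (X * Z + Z * X + X * Z * X)) := by
  obtain ⟨x, hx, ex⟩ := hX
  obtain ⟨z, hz, ez⟩ := hZ
  refine ⟨x * z * (x * z), mul_mem (mul_mem hx hz) (mul_mem hx hz), ?_⟩
  rw [Units.val_mul, Units.val_mul, ex, ez]
  have e : ∀ S : Matrix (Fin t → Fin k) (Fin t → Fin k) F, (1 + S) * (1 + S) = 1 + S * S := fun S => by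
    rw [mul_add, mul_one, add_mul, one_mul, add_assoc, ← add_assoc S, dbl h2, zero_add]
  rw [show (1 + X) * (1 + Z) = 1 + (X + Z + X * Z) by noncomm_ring, e]
  congr 1
  have hXZXZ : X * Z * X * Z = 0 := by rw [mul_assoc, mul_assoc, ← mul_assoc Z, hZXZ, mul_zero]
  simp only [mul_add, add_mul, ← mul_assoc, hXX, hZZ, hXZXZ, hZXZ, zero_mul, add_zero, zero_add]
  simp only [mul_assoc, hXX, hZZ, mul_zero, add_zero, zero_add]
  abel

theorem ov_iv_mid {ν μ : Type} [Fintype ν] (u v : Fin k → F) (P : Matrix ν (Rst k i) F) (R : Matrix (Rst k i) μ F) :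
    P * ov J i u * (inL i v * R) = bf J u v • (P * R) := by
  rw [Matrix.mul_assoc, ov_iv_mul, Matrix.mul_smul]

theorem dbl' (h2 : (2 : F) = 0) {M : Type*} [AddCommMonoid M] [Module F M] (z : M) : z + z = 0 := by
  rw [← two_smul F z, h2, zero_smul]

namespace Setting

variable (hS : Setting J H)
include hS

theorem smul_one_eq (i : Fin t) {s s' : F}
    (h : s • (1 : Matrix (Rst k i) (Rst k i) F) = s' • (1 : Matrix (Rst k i) (Rst k i) F)) : s = s' := by
  haveI := hS.nonempty_rst i
  obtain ⟨x⟩ : Nonempty (Rst k i) := inferInstance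
  have := congrFun (congrFun h x) x
  simpa using this

theorem smul_one_eq_zero (i : Fin t) {s : F} (h : s • (1 : Matrix (Rst k i) (Rst k i) F) = 0) : s = 0 :=
  hS.smul_one_eq i (by rw [h, zero_smul])

/-- the dual basis -/
theorem dual_basis (w : Fin k → F) :
    ∑ b, bf J ((1 : Matrix (Fin k) (Fin k) F).row b ᵥ* J⁻¹) w • (Pi.single b (1 : F) : Fin k → F) = w := by
  have h := congrArg (· *ᵥ w) (rk_sum hS (1 : Matrix (Fin k) (Fin k) F))
  simpa [sum_mulVec, rk_mulVec] using h

theorem resolve (i : Fin t) :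
    ∑ b, inL i (Pi.single b (1 : F)) * ov J i ((1 : Matrix (Fin k) (Fin k) F).row b ᵥ* J⁻¹) =
      (1 : Matrix (Fin t → Fin k) (Fin t → Fin k) F) := by
  simp only [iv_ov]
  refine ((map_sum (AddMonoidHom.mk' (sl (κ := Fin k) (F := F) i) (sl_add i)) _ _).symm).trans ?_
  rw [rk_sum hS]
  exact sl_one i

theorem eq_zero_of_ov {ν : Type} (X : Matrix (Fin t → Fin k) ν F) (h : ∀ z, ov J i z * X = 0) : X = 0 := by
  refine (Matrix.one_mul X).symm.trans ?_
  rw [← hS.resolve i, Matrix.sum_mul]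
  exact Finset.sum_eq_zero fun b _ => by rw [Matrix.mul_assoc, h, Matrix.mul_zero]

theorem eq_zero_of_iv {ν : Type} (X : Matrix ν (Fin t → Fin k) F) (h : ∀ w : Fin k → F, X * inL i w = 0) : X = 0 := by
  refine (Matrix.mul_one X).symm.trans ?_
  rw [← hS.resolve i, Matrix.mul_sum]
  exact Finset.sum_eq_zero fun b _ => by rw [← Matrix.mul_assoc, h, Matrix.zero_mul]

theorem proj_perp {u u' : Fin k → F} (h : bf J u u' = 1) (z : Fin k → F) :
    bf J u (z + bf J u z • u') = 0 := by
  rw [bf_add_right, bf_smul_right, h, mul_one]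
  linear_combination bf J u z * hS.two

theorem recon_left {ν : Type} {u u' : Fin k → F} (h : bf J u u' = 1) {X : Matrix (Fin t → Fin k) ν F}
    (hX : ∀ z, bf J u z = 0 → ov J i z * X = 0) : X = inL i u * (ov J i u' * X) := by
  have h0 : X + inL i u * (ov J i u' * X) = 0 := hS.eq_zero_of_ov _ (i := i) fun z => by
    have e := hX _ (hS.proj_perp h z)
    rw [ov_add, ov_smul, Matrix.add_mul, Matrix.smul_mul] at e
    rw [Matrix.mul_add, ov_iv_mul, hS.swap z u]
    exact e

  exact (eq_neg_of_add_eq_zero_left h0).trans (neg_self hS.two _)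

theorem recon_right {ν : Type} {u u' : Fin k → F} (h : bf J u u' = 1) {X : Matrix ν (Fin t → Fin k) F}
    (hX : ∀ w : Fin k → F, bf J u w = 0 → X * inL i w = 0) : X = X * inL i u' * ov J i u := by
  have h0 : X + X * inL i u' * ov J i u = 0 := hS.eq_zero_of_iv _ (i := i) fun w => by
    have e := hX _ (hS.proj_perp h w)
    rw [LWreath.inL_add, LWreath.inL_smul, Matrix.mul_add, Matrix.mul_smul] at e
    rw [Matrix.add_mul, Matrix.mul_assoc _ (ov J i u), ov_iv, Matrix.mul_smul, Matrix.mul_one]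
    exact e
  exact (eq_neg_of_add_eq_zero_left h0).trans (neg_self hS.two _)

/-- adjoint of an image of a slot subspace -/
theorem adj_col {Z : Matrix (Fin t → Fin k) (Fin t → Fin k) F} {w p q : Fin k → F}
    {a b : Matrix (Rst k i) (Rst k i) F} (h : Z * inL i w = inL i p * a + inL i q * b) :
    ov J i w * adG J Z = adG J a * ov J i p + adG J b * ov J i q := by
  refine hS.cancelG ?_
  have h1 := congrArg Matrix.transpose h
  rw [transpose_mul, transpose_add, transpose_mul, transpose_mul] at h1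
  have h2 := congrArg (· * GV J (β := Fin t)) h1
  simp only [Matrix.add_mul, Matrix.mul_assoc _ _ (GV J (β := Fin t)), hS.iv_transpose] at h2
  rw [← hS.adG_spec, ← Matrix.mul_assoc, hS.iv_transpose, ← Matrix.mul_assoc aᵀ, ← Matrix.mul_assoc bᵀ,
    ← hS.adG_spec, ← hS.adG_spec, Matrix.mul_assoc, Matrix.mul_assoc, Matrix.mul_assoc] at h2
  rw [h2, Matrix.mul_add]

theorem adj_col1 {Z : Matrix (Fin t → Fin k) (Fin t → Fin k) F} {w p : Fin k → F}
    {a : Matrix (Rst k i) (Rst k i) F} (h : Z * inL i w = inL i p * a) :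
    ov J i w * adG J Z = adG J a * ov J i p := by
  have := hS.adj_col (q := 0) (b := 0) (Z := Z) (w := w) (p := p) (a := a) (by rw [Matrix.mul_zero, add_zero, h])
  rw [this, show adG J (0 : Matrix (Rst k i) (Rst k i) F) = 0 from hS.adG_eq (by
    rw [transpose_zero, Matrix.zero_mul, Matrix.mul_zero]), Matrix.zero_mul, add_zero]

/-- an operator coming with a term on the first vector is scalar -/
theorem scalar_of_D (hR : Rigid J H) {u v : Fin k → F} {a c : Matrix (Rst k i) (Rst k i) F} (hu : u ≠ 0)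
    (huv : bf J u v = 0) (hv : ∀ s : F, v ≠ s • u) (h : InH H (1 + (Y J i u v a + inL i u * c * ov J i u))) :
    ∃ κ : F, a = κ • 1 := by
  obtain ⟨_, v', p, q, -, hvv', huv', -, -, hup, hvp, -, hv'p, huq, -, -, -, hpq⟩ := hS.frame hu huv hv
  have hp0 : p ≠ 0 := fun e => one_ne_zero (hpq.symm.trans (by rw [e, bf, zero_dotProduct]))
  have hv'0 : v' ≠ 0 := fun e => one_ne_zero (hvv'.symm.trans (by rw [e, bf, mulVec_zero, dotProduct_zero]))
  have hE : InH H (1 + Y J i v' p 1) := hS.aop_one v' p hv'0 hv'p fun s e => by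
    rcases eq_or_ne s 0 with rfl | hs
    · exact hp0 (by rw [e, zero_smul])
    · exact one_ne_zero (hvv'.symm.trans (by
        rw [show v' = s⁻¹ • p by rw [e, inv_smul_smul₀ hs], bf_smul_right, hvp, mul_zero]))
  have h1 := hS.rule u v v' p huv huv' hup hv'p hvp hvv' h hE
  rw [Matrix.mul_one] at h1
  exact hR i a (hS.aop_of_pair hu hup
    (fun s e => one_ne_zero (hpq.symm.trans (by rw [e, bf_smul_left, huq, mul_zero]))) h1)

theorem perp3 (x y z : Fin k → F) : ∃ v, v ≠ 0 ∧ bf J x v = 0 ∧ bf J y v = 0 ∧ bf J z v = 0 := by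
  let f : (Fin k → F) →ₗ[F] Fin 3 → F :=
    { toFun := fun b => ![bf J x b, bf J y b, bf J z b]
      map_add' := fun p q => by ext j; fin_cases j <;> simp [bf_add_right]
      map_smul' := fun s p => by ext j; fin_cases j <;> simp [bf_smul_right] }
  have h3 := f.finrank_range_add_finrank_ker
  have h4 : Module.finrank F (LinearMap.range f) ≤ 3 := (Submodule.finrank_le _).trans (by simp)
  rw [Module.finrank_fintype_fun_eq_card, Fintype.card_fin] at h3
  have hne : LinearMap.ker f ≠ ⊥ := fun e => by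
    rw [e, finrank_bot] at h3
    have := hS.dim
    omega
  obtain ⟨v, hv, hv0⟩ := Submodule.exists_mem_ne_zero_of_ne_bot hne
  have h0 := LinearMap.mem_ker.1 hv
  exact ⟨v, hv0, congrFun h0 0, congrFun h0 1, congrFun h0 2⟩

/-- an element of the group that is an involution is self-adjoint -/
theorem adG_invol {y : GL (Fin t → Fin k) F} (hy : y ∈ H) (hyy : y * y = 1) :
    adG J (y : Matrix (Fin t → Fin k) (Fin t → Fin k) F) = y := by
  rw [← hS.inv_eq hy, inv_eq_of_mul_eq_one_right hyy]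

theorem nl_adG {y : GL (Fin t → Fin k) F} (hy : y ∈ H) (hyy : y * y = 1) : adG J (nl y) = nl y := by
  rw [nl, hS.adG_add, hS.adG_one, hS.adG_invol hy hyy]

/-- the eigen operator is an involution -/
theorem stable_sq {y : GL (Fin t → Fin k) F} (hyy : y * y = 1) {u u' : Fin k → F} (huu' : bf J u u' = 1)
    {a : Matrix (Rst k i) (Rst k i) F}
    (he : (y : Matrix (Fin t → Fin k) (Fin t → Fin k) F) * inL i u = inL i u * a) : a * a = 1 := by
  have h1 : inL i u * (a * a) = inL i u := by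
    rw [← Matrix.mul_assoc, ← he, Matrix.mul_assoc, ← he, ← Matrix.mul_assoc, ← Units.val_mul, hyy, Units.val_one,
      Matrix.one_mul]
  have h2 := congrArg (ov J i u' * ·) h1
  simpa only [ov_iv_mul, ov_iv, hS.swap u' u, huu', one_smul] using h2

/-- the middle part of the involution is a multiple of the eigen operator -/
theorem middle (hR : Rigid J H) {y : GL (Fin t → Fin k) F} (hy : y ∈ H) (hyy : y * y = 1) {u : Fin k → F}
    (hu : u ≠ 0) {a : Matrix (Rst k i) (Rst k i) F}
    (he : (y : Matrix (Fin t → Fin k) (Fin t → Fin k) F) * inL i u = inL i u * a) {z w : Fin k → F}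
    (hz : bf J u z = 0) (hw : bf J u w = 0) :
    ∃ s : F, ov J i z * (y : Matrix (Fin t → Fin k) (Fin t → Fin k) F) * inL i w = s • a := by
  set Y₀ := (y : Matrix (Fin t → Fin k) (Fin t → Fin k) F) with hY₀
  have hYY : Y₀ * Y₀ = 1 := by rw [hY₀, ← Units.val_mul, hyy, Units.val_one]
  have hadj : ov J i u * Y₀ = adG J a * ov J i u := by
    have h := hS.adj_col1 he
    rwa [hY₀, hS.adG_invol hy hyy] at h
  by_cases hwu : ∀ s : F, w ≠ s • u
  swap
  · push Not at hwu
    obtain ⟨s, rfl⟩ := hwu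
    refine ⟨0, ?_⟩
    rw [LWreath.inL_smul, Matrix.mul_smul, Matrix.mul_assoc, he, ov_iv_mul, hS.swap z u, hz, zero_smul, smul_zero]
  by_cases hzu : ∀ s : F, z ≠ s • u
  swap
  · push Not at hzu
    obtain ⟨s, rfl⟩ := hzu
    refine ⟨0, ?_⟩
    rw [ov_smul, Matrix.smul_mul, Matrix.smul_mul, hadj, Matrix.mul_assoc, ov_iv, hw, zero_smul, Matrix.mul_zero,
      smul_zero, zero_smul]
  -- the conjugate of the pair element
  set R := ov J i z * Y₀ with hR'
  set R' := Y₀ * inL i z with hR''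
  set K := R * inL i w with hK
  have hKadj : ov J i w * R' = adG J K := by
    rw [hK, hR', hS.adG_comp, hS.adG_invol hy hyy, hR'', Matrix.mul_assoc]
  have hMem : InH H (1 + (inL i u * a * R + R' * adG J a * ov J i u)) := by
    have h := InH.conj (hS.aop_one (i := i) u z hu hz hzu) hy
    rw [inv_eq_of_mul_eq_one_right hyy, ← hY₀] at h
    refine cast (congrArg (fun Z => InH H (1 + Z)) ?_) h
    rw [Y, hS.adG_one, Matrix.mul_one, Matrix.mul_one, conj_add, hR', hR'']
    congr 1
    · rw [← Matrix.mul_assoc, he, Matrix.mul_assoc _ (ov J i z) Y₀]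
    · rw [Matrix.mul_assoc, Matrix.mul_assoc, hadj]
      simp only [Matrix.mul_assoc]
  have hW : InH H (1 + inL i w * ov J i w) := by rw [iv_ov]; exact hS.root i w
  have hRu : R * inL i u = 0 := by rw [hR', Matrix.mul_assoc, he, ov_iv_mul, hS.swap z u, hz, zero_smul]
  have huR' : ov J i u * R' = 0 := by
    rw [hR'', ← Matrix.mul_assoc, hadj, Matrix.mul_assoc, ov_iv, hz, zero_smul, Matrix.mul_zero]
  have hRR' : R * R' = 0 := by
    rw [hR', hR'', Matrix.mul_assoc, ← Matrix.mul_assoc Y₀, hYY, Matrix.one_mul, ov_iv, hS.alt, zero_smul]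
  have hDD : (inL i u * a * R + R' * adG J a * ov J i u) * (inL i u * a * R + R' * adG J a * ov J i u) = 0 := by
    simp only [Matrix.mul_add, Matrix.add_mul, Matrix.mul_assoc]
    simp only [← Matrix.mul_assoc R (inL i u), hRu, ← Matrix.mul_assoc R R', hRR', ← Matrix.mul_assoc (ov J i u) R',
      huR', ov_iv_mul, hS.alt, zero_smul, Matrix.zero_mul, Matrix.mul_zero, add_zero]
  have hEE : inL i w * ov J i w * (inL i w * ov J i w) = 0 := by
    rw [ov_iv_mid, hS.alt, zero_smul]
  have hEDE : inL i w * ov J i w * (inL i u * a * R + R' * adG J a * ov J i u) * (inL i w * ov J i w) = 0 := by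
    simp only [Matrix.mul_add, Matrix.add_mul, Matrix.mul_assoc, ov_iv_mul, hS.swap w u, hw, zero_smul,
      Matrix.zero_mul, Matrix.mul_zero, add_zero]
  have h1 := InH.sq1 hS.two hMem hW hDD hEE hEDE
  have e1 : (inL i u * a * R + R' * adG J a * ov J i u) * (inL i w * ov J i w) = inL i u * (a * K) * ov J i w := by
    simp only [Matrix.add_mul, Matrix.mul_assoc, ov_iv_mul, hw, zero_smul, Matrix.mul_zero, add_zero]
    rw [← Matrix.mul_assoc R, ← hK]
  have e2 : inL i w * ov J i w * (inL i u * a * R + R' * adG J a * ov J i u) =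
      inL i w * adG J (a * K) * ov J i u := by
    simp only [Matrix.mul_add, Matrix.mul_assoc, ov_iv_mul, hS.swap w u, hw, zero_smul, Matrix.mul_zero, zero_add]
    rw [← Matrix.mul_assoc (ov J i w) R', hKadj, hS.adG_mul, Matrix.mul_assoc]
  have e3 : inL i u * (a * K) * ov J i w * (inL i u * a * R + R' * adG J a * ov J i u) =
      inL i u * (a * K * adG J (a * K)) * ov J i u := by
    simp only [Matrix.mul_add, Matrix.mul_assoc, ov_iv_mul, hS.swap w u, hw, zero_smul, Matrix.mul_zero, zero_add]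
    rw [← Matrix.mul_assoc (ov J i w) R', hKadj, hS.adG_mul]
    simp only [Matrix.mul_assoc]
  rw [e1, e2, e3] at h1
  obtain ⟨s, hs⟩ := hS.scalar_of_D hR hu hw hwu h1
  obtain ⟨z₀, hz₀⟩ := exists_bf_ne J hS.det hu
  have haa := hS.stable_sq (u' := (bf J u z₀)⁻¹ • z₀) hyy (by rw [bf_smul_right, inv_mul_cancel₀ hz₀]) he
  refine ⟨s, ?_⟩
  show K = s • a
  rw [← Matrix.one_mul K, ← haa, Matrix.mul_assoc, hs, Matrix.mul_smul, Matrix.mul_one]

/-- a middle part different from that of the eigen operator forces a slot root element -/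
theorem slot_of_middle (hR : Rigid J H) {T : Finset (Fin t)} {y : GL (Fin t → Fin k) F} (hy : Small J H T y)
    {u u' : Fin k → F} (huu' : bf J u u' = 1) {a : Matrix (Rst k i) (Rst k i) F}
    (he : (y : Matrix (Fin t → Fin k) (Fin t → Fin k) F) * inL i u = inL i u * a) {z w : Fin k → F}
    (hz : bf J u z = 0) (hw : bf J u w = 0)
    (hne : ov J i z * (y : Matrix (Fin t → Fin k) (Fin t → Fin k) F) * inL i w ≠ bf J z w • a) : Slot J y := by
  have hu : u ≠ 0 := fun e => one_ne_zero (huu'.symm.trans (by rw [e, bf, zero_dotProduct]))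
  haveI := hS.nonempty_rst i
  have haa := hS.stable_sq hy.sq huu' he
  have comp : ∀ p q : Fin k → F, ov J i p * nl y * inL i q =
      ov J i p * (y : Matrix (Fin t → Fin k) (Fin t → Fin k) F) * inL i q + bf J p q • 1 := fun p q => by
    rw [nl, Matrix.mul_add, Matrix.mul_one, Matrix.add_mul, ov_iv]
  have hXu : nl y * inL i u = inL i u * (a + 1) := by
    rw [nl, Matrix.add_mul, he, Matrix.one_mul, Matrix.mul_add, Matrix.mul_one]
  obtain ⟨s₀, hs₀⟩ := hS.middle hR hy.mem hy.sq hu he hz hw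
  have hsb : s₀ + bf J z w ≠ 0 := fun e => hne (by
    rw [hs₀, eq_neg_of_add_eq_zero_left e, neg_smul, neg_self hS.two])
  by_cases ha1 : a = 1
  swap
  · exfalso
    have hrank := hy.rank
    have h := rank_gt (X := nl y) (A := ov J i z) (B := inL i w) (B₂ := inL i u) (A₂ := ov J i u') ?_ ?_ ?_
    · rw [card_rst] at h; omega
    · rw [comp, hs₀]
      have hsq : (s₀ • a + bf J z w • (1 : Matrix (Rst k i) (Rst k i) F)) * (s₀ • a + bf J z w • 1) =
          ((s₀ + bf J z w) * (s₀ + bf J z w)) • 1 := by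
        simp only [mul_add, add_mul, smul_mul_assoc, mul_smul_comm, haa, smul_smul, one_mul, mul_one]
        match_scalars <;>
          first | linear_combination (s₀ * bf J z w) * hS.two | linear_combination -(s₀ * bf J z w) * hS.two | ring
      refine ⟨⟨_, ((s₀ + bf J z w) * (s₀ + bf J z w))⁻¹ • (s₀ • a + bf J z w • 1), ?_, ?_⟩, rfl⟩
      · rw [mul_smul_comm, hsq, inv_smul_smul₀ (mul_ne_zero hsb hsb)]
      · rw [smul_mul_assoc, hsq, inv_smul_smul₀ (mul_ne_zero hsb hsb)]
    · rw [Matrix.mul_assoc, hXu, ov_iv_mul, hS.swap z u, hz, zero_smul]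
    · rw [Matrix.mul_assoc, hXu, ov_iv_mul, hS.swap u' u, huu', one_smul]
      exact fun e => ha1 ((eq_neg_of_add_eq_zero_left e).trans (neg_self hS.two _))
  subst ha1
  have mid : ∀ p q, bf J u p = 0 → bf J u q = 0 → ∃ β : F, ov J i p * nl y * inL i q = β • 1 := fun p q hp hq => by
    obtain ⟨s, hs⟩ := hS.middle hR hy.mem hy.sq hu he hp hq
    exact ⟨s + bf J p q, by rw [comp, hs, add_smul]⟩
  have hadX := hS.nl_adG hy.mem hy.sq
  by_cases hdiag : ∃ (w : Fin k → F) (β : F), bf J u w = 0 ∧ β ≠ 0 ∧ ov J i w * nl y * inL i w = β • 1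
  swap
  · exfalso
    push Not at hdiag
    have hd : ∀ w, bf J u w = 0 → ov J i w * nl y * inL i w = 0 := fun w hw => by
      obtain ⟨β, hβ⟩ := mid w w hw hw
      rcases eq_or_ne β 0 with rfl | h
      · rw [hβ, zero_smul]
      · exact absurd hβ (hdiag w β hw h)
    have hb : ov J i z * nl y * inL i w = (s₀ + bf J z w) • 1 := by rw [comp, hs₀, add_smul]
    have hb' : ov J i w * nl y * inL i z = (s₀ + bf J z w) • 1 := by
      have h := congrArg (adG J) hb
      rwa [hS.adG_comp, hadX, hS.adG_smul, hS.adG_one] at h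
    have hU : IsUnit ((s₀ + bf J z w) • (1 : Matrix (Rst k i) (Rst k i) F)) :=
      ⟨⟨_, (s₀ + bf J z w)⁻¹ • 1, by rw [smul_mul_smul_comm, mul_inv_cancel₀ hsb, one_smul, mul_one],
        by rw [smul_mul_smul_comm, inv_mul_cancel₀ hsb, one_smul, mul_one]⟩, rfl⟩
    have h := block_le (J := J) (i := i) (ι := Fin 2) ![z, w] ![w, z] (X := nl y) hU (c := 0) (mul_zero _)
      (Commute.zero_right _) 0 fun j l => by
        fin_cases j <;> fin_cases l <;> simp [hb, hb', hd z hz, hd w hw]
    rw [hy.rank, Fintype.card_fin] at h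
    have := hS.nn_pos
    omega
  obtain ⟨w, β, hw, hβ, hXw⟩ := hdiag
  -- the factorisation
  have hfac : nl y = β⁻¹ • (nl y * inL i w * (ov J i w * nl y)) := by
    have h := factor_of_rank (X := nl y) (A := β⁻¹ • ov J i w) (B := inL i w)
      (by rw [Matrix.smul_mul, Matrix.smul_mul, hXw, smul_smul, inv_mul_cancel₀ hβ, one_smul])
      (by rw [hy.rank, card_rst])
    rwa [Matrix.smul_mul, Matrix.mul_smul] at h
  set P := nl y * inL i w with hP
  set f : Fin k → Fin k → F := fun b => (1 : Matrix (Fin k) (Fin k) F).row b ᵥ* J⁻¹ with hf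
  choose γ hγ using fun b => mid _ w (hS.proj_perp huu' (f b)) hw
  set p : Fin k → F := ∑ b, γ b • Pi.single b 1 with hp
  set π := ov J i u' * P with hπ
  have hPeq : P = inL i p + inL i u * π := by
    have e : ∀ b, ov J i (f b) * P = γ b • (1 : Matrix (Rst k i) (Rst k i) F) + bf J u (f b) • π := fun b => by
      rw [← hγ b, hπ, Matrix.mul_assoc _ (nl y) (inL i w), ← hP, ov_add, ov_smul, Matrix.add_mul, Matrix.smul_mul,
        add_assoc, dbl hS.two, add_zero]
    conv_lhs => rw [← Matrix.one_mul P, ← hS.resolve i]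
    simp only [Matrix.sum_mul, Matrix.mul_assoc]
    rw [Finset.sum_congr rfl fun b _ => by rw [show ov J i ((1 : Matrix (Fin k) (Fin k) F).row b ᵥ* J⁻¹) * P = _ from e b]]
    simp only [Matrix.mul_add, Matrix.mul_smul, Matrix.mul_one, Finset.sum_add_distrib, ← Matrix.smul_mul,
      ← Matrix.sum_mul, ← LWreath.inL_smul, hp]
    have hlin : ∀ v : Fin k → Fin k → F, ∑ b, inL (t := t) i (v b) = inL i (∑ b, v b) := fun v =>
      (map_sum (AddMonoidHom.mk' (inL (t := t) (k := k) (F := F) i) (LWreath.inL_add i)) v Finset.univ).symm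
    rw [hlin, hlin]
    congr 3
    conv_rhs => rw [← hS.dual_basis u]
    exact Finset.sum_congr rfl fun b _ => by rw [hS.swap u (f b)]
  have huP : ov J i u * P = 0 := by
    rw [hP, ← Matrix.mul_assoc, ← hadX, hS.adj_col1 (Z := nl y) (p := u) (a := 0) (by
      rw [hXu, dbl hS.two]), hS.adG_eq (Z := (0 : Matrix (Rst k i) (Rst k i) F)) (M := 0) (by
      rw [transpose_zero, Matrix.zero_mul, Matrix.mul_zero]), Matrix.zero_mul, Matrix.zero_mul]
  have hup : bf J u p = 0 := by
    refine hS.smul_one_eq_zero i ?_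
    rwa [hPeq, Matrix.mul_add, ov_iv, ov_iv_mul, hS.alt, zero_smul, add_zero] at huP
  have hwp : bf J w p = β := by
    refine hS.smul_one_eq i ?_
    rw [← hXw, Matrix.mul_assoc, ← hP, hPeq, Matrix.mul_add, ov_iv, ov_iv_mul, hS.swap w u, hw, zero_smul, add_zero]
  have hpu : ∀ s : F, p ≠ s • u := fun s e => hβ (by rw [← hwp, e, bf_smul_right, hS.swap w u, hw, mul_zero])
  have hwX : ov J i w * nl y = ov J i p + adG J π * ov J i u := by
    rw [← hadX, hS.adj_col (Z := nl y) (p := p) (q := u) (a := 1) (b := π) (by rw [← hP, hPeq, Matrix.mul_one]),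
      hS.adG_one, Matrix.one_mul]
  obtain ⟨r, hr⟩ := isSquare_two hS.two β⁻¹
  have hX : nl y = sl i (rk J (r • p) (r • p)) +
      (Y J i u p (β⁻¹ • π) + inL i u * (β⁻¹ • (π * adG J π)) * ov J i u) := by
    rw [rk_smul_left, rk_smul_right, smul_smul, ← hr, sl_smul, ← iv_ov, Y, hS.adG_smul]
    conv_lhs => rw [hfac, hwX, hPeq]
    simp only [Matrix.mul_add, Matrix.add_mul, Matrix.mul_smul, Matrix.smul_mul, smul_add, Matrix.mul_assoc]
    abel
  have h1 : InH H (1 + (Y J i u p (β⁻¹ • π) + inL i u * (β⁻¹ • (π * adG J π)) * ov J i u)) := by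
    refine ⟨hS.rt i (r • p) * y, mul_mem (hS.rt_mem _ _) hy.mem, ?_⟩
    rw [Units.val_mul, hS.rt_val, eq_of_nl hS.two y, hX]
    set Q := sl i (rk J (r • p) (r • p)) with hQ
    set Z := Y J i u p (β⁻¹ • π) + inL i u * (β⁻¹ • (π * adG J π)) * ov J i u with hZ
    have h0 : Q * Q = 0 := hS.sq_zero_rt i _
    have h1 : Q * Z = 0 := by
      rw [hQ, hZ, ← iv_ov, ov_smul, LWreath.inL_smul]
      simp only [Y, Matrix.smul_mul, Matrix.mul_smul, Matrix.mul_add, Matrix.mul_assoc, ov_iv_mul, hS.alt,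
        hS.swap p u, hup, zero_smul, smul_zero, Matrix.mul_zero, add_zero]
    rw [show (1 + Q) * (1 + (Q + Z)) = 1 + Z + (Q + Q) + (Q * Q + Q * Z) by noncomm_ring, dbl hS.two, h0, h1,
      add_zero, add_zero, add_zero]
  obtain ⟨κ, hκ⟩ := hS.scalar_of_D hR hu hup hpu h1
  have hπs : π = (β * κ) • (1 : Matrix (Rst k i) (Rst k i) F) := by
    rw [← smul_smul, ← hκ, smul_smul, mul_inv_cancel₀ hβ, one_smul]
  have hp' : r • (p + (β * κ) • u) ≠ 0 := by
    refine smul_ne_zero (fun e => ?_) fun e => hpu (-(β * κ)) ?_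
    · rw [e, mul_zero] at hr
      exact hβ (inv_eq_zero.1 hr)
    · rw [neg_smul]; exact eq_neg_of_add_eq_zero_left e
  refine ⟨i, _, hp', ?_⟩
  have hP' : P = inL i (p + (β * κ) • u) := by
    rw [hPeq, hπs, Matrix.mul_smul, Matrix.mul_one, LWreath.inL_add, LWreath.inL_smul]
  have hwX' : ov J i w * nl y = ov J i (p + (β * κ) • u) := by
    rw [hwX, hπs, hS.adG_smul, hS.adG_one, Matrix.smul_mul, Matrix.one_mul, ov_add, ov_smul]
  rw [rk_smul_left, rk_smul_right, smul_smul, ← hr, sl_smul, ← iv_ov, eq_of_nl hS.two y]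
  congr 1
  conv_lhs => rw [hfac, hwX', hP']

/-- an involution of smallest rank that maps a slot subspace to itself is a slot root element -/
theorem slot_of_stable (hR : Rigid J H) {T : Finset (Fin t)}
    (IH : ∀ y, Small J H (insert i T) y → Slot J y) {y : GL (Fin t → Fin k) F} (hy : Small J H T y)
    {u : Fin k → F} (hu : u ≠ 0) {a : Matrix (Rst k i) (Rst k i) F}
    (he : (y : Matrix (Fin t → Fin k) (Fin t → Fin k) F) * inL i u = inL i u * a) : Slot J y := by
  haveI := hS.nonempty_rst i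
  obtain ⟨z₀, huz₀, -, hz₀⟩ := hS.perp2 u u
  have hz₀u : ∀ s : F, z₀ ≠ s • u :=
    fun s e => hz₀ (e ▸ Submodule.smul_mem _ _ (Submodule.subset_span ⟨0, rfl⟩))
  obtain ⟨u', z₁, v₀, q, huu', hzz, huz₁, -, -, huv, -, hu'v, -, -, -, hu'q, -, hvq⟩ := hS.frame hu huz₀ hz₀u
  have hv₀ : v₀ ≠ 0 := fun e => one_ne_zero (hvq.symm.trans (by rw [e, bf, zero_dotProduct]))
  by_cases hmid : ∀ z w, bf J u z = 0 → bf J u w = 0 →
      ov J i z * (y : Matrix (Fin t → Fin k) (Fin t → Fin k) F) * inL i w = bf J z w • a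
  swap
  · push Not at hmid
    obtain ⟨z, w, hz, hw, hne⟩ := hmid
    exact hS.slot_of_middle hR hy huu' he hz hw hne
  set Y₀ := (y : Matrix (Fin t → Fin k) (Fin t → Fin k) F) with hY₀
  have hYY : Y₀ * Y₀ = 1 := by rw [hY₀, ← Units.val_mul, hy.sq, Units.val_one]
  have hadY : adG J Y₀ = Y₀ := hS.adG_invol hy.mem hy.sq
  have haa := hS.stable_sq hy.sq huu' he
  have ha : a ≠ 0 := fun e => one_ne_zero (haa.symm.trans (by rw [e, mul_zero]))
  have hadj : ov J i u * Y₀ = adG J a * ov J i u := by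
    have h := hS.adj_col1 he
    rwa [hadY] at h
  have haT : adG J a = a := by
    have h1 : ov J i z₁ * Y₀ * inL i z₀ = a := by rw [hmid _ _ huz₁ huz₀, hS.swap z₁ z₀, hzz, one_smul]
    have h2 := congrArg (adG J) h1
    rw [hS.adG_comp, hadY, hmid _ _ huz₀ huz₁, hzz, one_smul] at h2
    exact h2.symm
  -- the images of the vectors orthogonal to the fixed one
  have hcol : ∀ w, bf J u w = 0 → ∃ π : Matrix (Rst k i) (Rst k i) F, Y₀ * inL i w = inL i w * a + inL i u * π := fun w hw => by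
    refine ⟨ov J i u' * (Y₀ * inL i w + inL i w * a), ?_⟩
    rw [← hS.recon_left huu' (X := Y₀ * inL i w + inL i w * a) fun z hz => ?_]
    · rw [add_comm (Y₀ * inL i w), ← add_assoc, dbl hS.two, zero_add]
    · rw [Matrix.mul_add, ← Matrix.mul_assoc, hmid z w hz hw, ov_iv_mul, dbl hS.two]
  have hlam : ∀ w, bf J u w = 0 → ∃ l : F, Y₀ * inL i w = inL i (w + l • u) * a := fun w hw => by
    obtain ⟨π, hπ⟩ := hcol w hw
    by_cases hwu : ∀ s : F, w ≠ s • u
    swap
    · push Not at hwu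
      obtain ⟨s, rfl⟩ := hwu
      exact ⟨0, by rw [zero_smul, add_zero, LWreath.inL_smul, Matrix.mul_smul, he, Matrix.smul_mul]⟩
    have hwY : ov J i w * Y₀ = a * ov J i w + adG J π * ov J i u := by
      have h := hS.adj_col hπ
      rwa [hadY, haT] at h
    have hZ : Y₀ * (inL i w * ov J i w) * Y₀ =
        inL i w * ov J i w + (Y J i u w (π * a) + inL i u * (π * adG J π) * ov J i u) := by
      rw [Y, hS.adG_mul, haT, ← Matrix.mul_assoc, hπ, Matrix.mul_assoc _ (ov J i w) Y₀, hwY]
      simp only [Matrix.mul_add, Matrix.add_mul, Matrix.mul_assoc]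
      rw [← Matrix.mul_assoc a a, haa, Matrix.one_mul]
      abel
    have h1 : InH H (1 + (Y J i u w (π * a) + inL i u * (π * adG J π) * ov J i u)) := by
      refine ⟨y * hS.rt i w * y * hS.rt i w,
        mul_mem (mul_mem (mul_mem hy.mem (hS.rt_mem _ _)) hy.mem) (hS.rt_mem _ _), ?_⟩
      rw [Units.val_mul, Units.val_mul, Units.val_mul, hS.rt_val, ← hY₀, mul_add Y₀, add_mul (Y₀ * 1), mul_one,
        hYY, ← iv_ov, hZ]
      set Q := inL i w * ov J i w with hQ
      set Z := Y J i u w (π * a) + inL i u * (π * adG J π) * ov J i u with hZd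
      have h0 : Q * Q = 0 := by rw [hQ, ov_iv_mid, hS.alt, zero_smul]
      have h2 : Z * Q = 0 := by
        simp only [hZd, hQ, Y, Matrix.add_mul, ov_iv_mid, hS.alt, hw, zero_smul, add_zero]
      rw [show (1 + (Q + Z)) * (1 + Q) = 1 + Z + (Q + Q) + (Q * Q + Z * Q) by noncomm_ring, dbl hS.two, h0, h2,
        add_zero, add_zero, add_zero]
    obtain ⟨l, hl⟩ := hS.scalar_of_D hR hu hw hwu h1
    refine ⟨l, ?_⟩
    rw [hπ, LWreath.inL_add, LWreath.inL_smul, Matrix.add_mul, Matrix.smul_mul, ← Matrix.mul_one π, ← haa,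
      ← Matrix.mul_assoc π, hl, Matrix.smul_mul, Matrix.one_mul, Matrix.mul_smul]
  -- the functional
  obtain ⟨x₀, y₀, hxy⟩ : ∃ x₀ y₀, a x₀ y₀ ≠ 0 := by
    by_contra! h
    exact ha (Matrix.ext h)
  let L : (Fin k → F) →ₗ[F] F :=
    { toFun := fun w => (ov J i u' * Y₀ * inL i w) x₀ y₀ / a x₀ y₀ + bf J u' w
      map_add' := fun p q => by
        rw [LWreath.inL_add, Matrix.mul_add, Matrix.add_apply, add_div, bf_add_right]; abel
      map_smul' := fun s p => by
        rw [LWreath.inL_smul, Matrix.mul_smul, Matrix.smul_apply, bf_smul_right, RingHom.id_apply, smul_eq_mul,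
          smul_eq_mul, mul_add, mul_div_assoc] }
  have hL : ∀ w, bf J u w = 0 → Y₀ * inL i w = inL i (w + L w • u) * a := fun w hw => by
    obtain ⟨l, hl⟩ := hlam w hw
    have : L w = l := by
      show (ov J i u' * Y₀ * inL i w) x₀ y₀ / a x₀ y₀ + bf J u' w = l
      rw [Matrix.mul_assoc, hl, ov_iv_mul, bf_add_right, bf_smul_right, hS.swap u' u, huu', Matrix.smul_apply,
        smul_eq_mul, mul_div_assoc, div_self hxy]
      linear_combination bf J u' w * hS.two
    rw [this, hl]
  set f : Fin k → Fin k → F := fun b => (1 : Matrix (Fin k) (Fin k) F).row b ᵥ* J⁻¹ with hf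
  set χ : Fin k → F := ∑ b, L (Pi.single b 1) • f b with hχ
  have hbχ : ∀ w, bf J χ w = L w := fun w => by
    conv_rhs => rw [← hS.dual_basis w]
    let φ : (Fin k → F) →ₗ[F] F :=
      { toFun := fun z => bf J z w
        map_add' := fun p q => bf_add_left J p q w
        map_smul' := fun s p => bf_smul_left J s p w }
    show φ χ = _
    rw [hχ, map_sum, map_sum]
    refine Finset.sum_congr rfl fun b _ => ?_
    rw [map_smul, map_smul, smul_eq_mul, smul_eq_mul]
    exact mul_comm _ _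
  have hLu : L u = 0 := by
    show (ov J i u' * Y₀ * inL i u) x₀ y₀ / a x₀ y₀ + bf J u' u = 0
    rw [Matrix.mul_assoc, he, ov_iv_mul, hS.swap u' u, huu', one_smul, div_self hxy]
    linear_combination hS.two
  have huχ : bf J u χ = 0 := by rw [hS.swap, hbχ, hLu]
  -- the corrected element
  set S₀ := rk J u χ + rk J χ u with hS₀
  set M := (1 : Matrix (Fin t → Fin k) (Fin t → Fin k) F) + sl i S₀ with hM
  have hS₀S : S₀ * S₀ = 0 := by
    simp only [hS₀, mul_add, add_mul, rk_mul_rk, hS.alt, huχ, hS.swap χ u, zero_smul, add_zero]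
  have hMM : M * M = 1 := sq_one hS.two (by rw [sl_mul, hS₀S, sl_zero])
  obtain ⟨gm, hgm, egm⟩ := hS.mixed i huχ
  set y' := gm * y with hy'd
  have hy'H : y' ∈ H := mul_mem hgm hy.mem
  have ey' : (y' : Matrix (Fin t → Fin k) (Fin t → Fin k) F) = M * Y₀ := by
    rw [hy'd, Units.val_mul, egm]
  have hMY : ∀ w, bf J u w = 0 → M * Y₀ * inL i w = inL i w * a := fun w hw => by
    rw [Matrix.mul_assoc, hL w hw, ← Matrix.mul_assoc, hM, Matrix.add_mul, Matrix.one_mul, sl_iv, ← LWreath.inL_add,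
      hS₀, add_mulVec, rk_mulVec, rk_mulVec, bf_add_right, bf_add_right, bf_smul_right, bf_smul_right, hbχ, hw,
      hS.swap χ u, huχ, hS.alt]
    congr 2
    simp only [mul_zero, add_zero, zero_smul]
    rw [add_assoc, dbl' hS.two (L w • u), add_zero]
  set E := ext i a with hE
  have hEE : E * E = 1 := by rw [hE, ← LWreath.ext_mul, haa, LWreath.ext_one]
  have hEad : adG J E = E := by rw [hE, hS.adG_ext, haT]
  set Z := E * (M * Y₀) with hZd
  have hZw : ∀ w, bf J u w = 0 → Z * inL i w = inL i w := fun w hw => by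
    rw [hZd, Matrix.mul_assoc, hMY w hw, ← Matrix.mul_assoc, hE, LWreath.ext_mul_inL, Matrix.mul_assoc, haa,
      Matrix.mul_one]
  have hZZ : adG J Z * Z = 1 := by
    rw [hZd, hS.adG_mul, hEad, Matrix.mul_assoc, ← Matrix.mul_assoc E E, hEE, Matrix.one_mul, ← ey',
      ← hS.inv_eq hy'H, ← Units.val_mul, inv_mul_cancel, Units.val_one]
  set D := Z + 1 with hD
  have hZeq : Z = 1 + D := by rw [hD, add_comm Z, ← add_assoc, dbl hS.two, zero_add]
  have hDw : ∀ w, bf J u w = 0 → D * inL i w = 0 := fun w hw => by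
    rw [hD, Matrix.add_mul, hZw w hw, Matrix.one_mul, dbl hS.two]
  have hwD : ∀ w, bf J u w = 0 → ov J i w * D = 0 := fun w hw => by
    have h := hS.adj_col1 (Z := Z) (p := w) (a := 1) (by rw [hZw w hw, Matrix.mul_one])
    rw [hS.adG_one, Matrix.one_mul] at h
    have h2 : ov J i w * Z = ov J i w := by
      conv_lhs => rw [← h, Matrix.mul_assoc, hZZ, Matrix.mul_one]
    rw [hD, Matrix.mul_add, h2, Matrix.mul_one, dbl hS.two]
  set d := ov J i u' * D * inL i u' with hd
  have hDeq : D = inL i u * d * ov J i u := by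
    conv_lhs => rw [hS.recon_left huu' hwD, hS.recon_right huu' (X := ov J i u' * D) fun w hw => by
      rw [Matrix.mul_assoc, hDw w hw, Matrix.mul_zero]]
    rw [hd]
    simp only [Matrix.mul_assoc]
  have hDD : D * D = 0 := by rw [hDeq, term_mul, hS.alt, zero_smul]
  have hadD : adG J D = inL i u * adG J d * ov J i u := by rw [hDeq, hS.adG_iv_ov]
  have hdd : adG J d = d := by
    have h := hZZ
    rw [hZeq, hS.adG_add, hS.adG_one] at h
    rw [show (1 + adG J D) * (1 + D) = 1 + (adG J D + D) + adG J D * D by noncomm_ring] at h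
    rw [hadD, hDeq, term_mul, hS.alt, zero_smul, add_zero, add_eq_left] at h
    have hsu : ∀ c : Matrix (Rst k i) (Rst k i) F, ov J i u' * (inL i u * c * ov J i u) * inL i u' = c := fun c => by
      rw [Matrix.mul_assoc, Matrix.mul_assoc (inL i u * c), ov_iv, huu', one_smul, Matrix.mul_one, ov_iv_mul,
        hS.swap u' u, huu', one_smul]
    have h2 := congrArg (fun Z => ov J i u' * Z * inL i u') h
    simp only [Matrix.mul_add, Matrix.add_mul, hsu, Matrix.mul_zero, Matrix.zero_mul] at h2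
    exact (eq_neg_of_add_eq_zero_left h2).trans (neg_self hS.two _)
  have hy'eq : (y' : Matrix (Fin t → Fin k) (Fin t → Fin k) F) = E * (1 + D) := by
    rw [← hZeq, hZd, ← Matrix.mul_assoc E E, hEE, Matrix.one_mul, ey']
  have hy'inv : ((y'⁻¹ : GL (Fin t → Fin k) F) : Matrix (Fin t → Fin k) (Fin t → Fin k) F) = (1 + D) * E := by
    rw [hS.inv_eq hy'H, hy'eq, hS.adG_mul, hEad, hS.adG_add, hS.adG_one, hadD, hdd, ← hDeq]
  -- the scalar
  obtain ⟨κ, hκ⟩ : ∃ κ : F, a * d * a = κ • 1 := by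
    have huv0 : ∀ s : F, v₀ ≠ s • u' := fun s e => one_ne_zero (hvq.symm.trans (by
      rw [e, bf_smul_left, hu'q, mul_zero]))
    have huu0 : ∀ s : F, u ≠ s • v₀ := fun s e => one_ne_zero (huu'.symm.trans (by
      rw [e, bf_smul_left, hS.swap, hu'v, mul_zero]))
    set E' := inL i u' * ov J i v₀ + inL i v₀ * ov J i u' with hE'
    have hYE : Y J i u' v₀ 1 = E' := by rw [hE', Y, hS.adG_one, Matrix.mul_one, Matrix.mul_one]
    have hu'0 : u' ≠ 0 := fun e => one_ne_zero (huu'.symm.trans (by rw [e, bf, mulVec_zero, dotProduct_zero]))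
    obtain ⟨g, hg, ge⟩ := hS.aop_one (i := i) u' v₀ hu'0 hu'v huv0
    have h1 : InH H (1 + (Y J i v₀ u (a * d * a) + inL i v₀ * (a * d * a) * ov J i v₀)) := by
      refine ⟨y' * g * y'⁻¹ * g, mul_mem (mul_mem (mul_mem hy'H hg) (inv_mem hy'H)) hg, ?_⟩
      rw [Units.val_mul, Units.val_mul, Units.val_mul, hy'eq, hy'inv, ge, hYE]
      have hcE : E * E' * E = E' := by
        have : Commute E E' := by
          rw [hE', iv_ov, iv_ov]
          exact (LWreath.ext_commute i a _).add_right (LWreath.ext_commute i a _)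
        rw [this.eq, Matrix.mul_assoc, hEE, Matrix.mul_one]
      have hDED : D * E' * D = 0 := by
        simp only [hDeq, hE', Matrix.mul_add, Matrix.add_mul, Matrix.mul_assoc, ov_iv_mul, ov_iv, Matrix.smul_mul,
          hS.alt, huv, hS.swap v₀ u, zero_smul, Matrix.mul_zero, smul_zero, add_zero]
      have hD1 : D * E' = inL i u * d * ov J i v₀ := by
        simp only [hDeq, hE', Matrix.mul_add, Matrix.mul_assoc, ov_iv_mul, huv, huu', zero_smul, one_smul,
          Matrix.mul_zero, add_zero]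
      have hD2 : E' * D = inL i v₀ * d * ov J i u := by
        simp only [hDeq, hE', Matrix.add_mul, Matrix.mul_assoc, ov_iv_mul, hS.swap v₀ u, hS.swap u' u, huv, huu',
          zero_smul, one_smul, Matrix.mul_zero, zero_add]
      have hE'E' : E' * E' = 0 := by rw [← hYE]; exact hS.Y_mul _ _ hu'v 1 1
      have hsand : ∀ (p q : Fin k → F) (c : Matrix (Rst k i) (Rst k i) F),
          E * (inL i p * c * ov J i q) * E = inL i p * (a * c * a) * ov J i q := fun p q c => by
        rw [hE, ← Matrix.mul_assoc, ← Matrix.mul_assoc, LWreath.ext_mul_inL, Matrix.mul_assoc _ (ov J i q), ov_ext]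
        simp only [Matrix.mul_assoc]
      set P₁ := inL i u * (a * d * a) * ov J i v₀ with hP₁
      set P₂ := inL i v₀ * (a * d * a) * ov J i u with hP₂
      have e1 : E * (1 + D) * (1 + E') * ((1 + D) * E) = 1 + (E' + (P₁ + P₂)) := by
        rw [show E * (1 + D) * (1 + E') * ((1 + D) * E) = E * ((1 + D) * (1 + E') * (1 + D)) * E by
            simp only [Matrix.mul_assoc],
          show (1 + D) * (1 + E') * (1 + D) = 1 + (D + D) + (E' + (D * E' + E' * D)) + (D * D + D * E' * D) by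
            noncomm_ring, dbl hS.two, hDD, hDED, add_zero, add_zero, add_zero, hD1, hD2,
          show ∀ A B C : Matrix (Fin t → Fin k) (Fin t → Fin k) F, E * (1 + (A + (B + C))) * E =
            E * E + (E * A * E + (E * B * E + E * C * E)) from fun A B C => by noncomm_ring, hEE, hcE, hsand, hsand]
      rw [e1, show (1 + (E' + (P₁ + P₂))) * (1 + E') = 1 + (P₁ + P₂ + P₁ * E' + P₂ * E') + (E' + E') + E' * E' by
        noncomm_ring, dbl hS.two, hE'E', add_zero, add_zero]
      congr 1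
      have hP₁E : P₁ * E' = 0 := by
        simp only [hP₁, hE', Matrix.mul_add, Matrix.mul_assoc, ov_iv_mul, hS.swap v₀ u', hu'v, hS.alt, zero_smul,
          Matrix.mul_zero, add_zero]
      have hP₂E : P₂ * E' = inL i v₀ * (a * d * a) * ov J i v₀ := by
        simp only [hP₂, hE', Matrix.mul_add, Matrix.mul_assoc, ov_iv_mul, huu', huv, zero_smul, one_smul,
          Matrix.mul_zero, add_zero]
      rw [hP₁E, hP₂E, add_zero, Y, hP₁, hP₂, show adG J (a * d * a) = a * d * a by
        rw [hS.adG_mul, hS.adG_mul, haT, hdd, mul_assoc]]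
      abel
    exact hS.scalar_of_D hR hv₀ (by rw [hS.swap, huv]) huu0 h1
  have hdκ : d = κ • 1 := by
    have h := congrArg (fun X => a * X * a) hκ
    simp only [← mul_assoc, haa, one_mul] at h
    rwa [mul_assoc d a a, haa, mul_one, mul_smul_comm, mul_one, smul_mul_assoc, haa] at h
  set S := S₀ + κ • rk J u u with hSd
  have hYeq : Y₀ = sl i S * E + E := by
    have h1 : Y₀ = M * (E * (1 + D)) := by rw [← hy'eq, ey', ← Matrix.mul_assoc, hMM, Matrix.one_mul]
    have h2 : D = sl i (κ • rk J u u) := by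
      rw [hDeq, hdκ, Matrix.mul_smul, Matrix.mul_one, Matrix.smul_mul, iv_ov, sl_smul]
    have h3 : S₀ * (κ • rk J u u) = 0 := by
      simp only [hS₀, add_mul, mul_smul_comm, rk_mul_rk, hS.alt, hS.swap χ u, huχ, zero_smul, add_zero, smul_zero]
    rw [h1, h2, hM, ← Matrix.mul_assoc, Matrix.mul_add, Matrix.mul_one, Matrix.add_mul, Matrix.one_mul,
      Matrix.add_mul, Matrix.mul_assoc (sl i S₀), (LWreath.ext_commute i a _).eq, ← Matrix.mul_assoc (sl i S₀), sl_mul,
      h3, sl_zero, Matrix.zero_mul, add_zero, hSd, sl_add, Matrix.add_mul]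
    simp only [hS₀, hE, sl_add, Matrix.add_mul]
    abel
  by_cases hS0 : S = 0
  · refine IH y ⟨hy.mem, hy.sq, fun j hj A => ?_, hy.rank⟩
    rcases Finset.mem_insert.1 hj with rfl | hj
    · show Commute Y₀ _
      rw [hYeq, hS0, sl_zero, Matrix.zero_mul, zero_add, hE]
      exact LWreath.ext_commute _ a A
    · exact hy.cen j hj A
  have hX : nl y = sl i S * ext i a + ext i (a + 1) := by
    rw [nl, ← hY₀, hYeq, hE, LWreath.ext_add, LWreath.ext_one, add_assoc]
  have hSv : ∀ v, bf J u v = 0 → bf J χ v = 0 → S *ᵥ v = 0 := fun v h1 h2 => by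
    rw [hSd, hS₀, add_mulVec, add_mulVec, smul_mulVec, rk_mulVec, rk_mulVec, rk_mulVec, h1, h2, zero_smul, zero_smul,
      smul_zero, add_zero, add_zero]
  by_cases ha1 : a = 1
  swap
  · exfalso
    obtain ⟨w, hw⟩ : ∃ w, S *ᵥ w ≠ 0 := by
      by_contra! h
      exact hS0 (Matrix.toLin'.injective (LinearMap.ext fun v => by simpa using h v))
    obtain ⟨zz, hzz'⟩ := exists_bf_ne J hS.det hw
    set z := (bf J (S *ᵥ w) zz)⁻¹ • zz
    have hz : bf J z (S *ᵥ w) = 1 := by rw [hS.swap, bf_smul_right, inv_mul_cancel₀ hzz']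
    obtain ⟨v, hv0, huv', hχv, hzv⟩ := hS.perp3 u χ z
    obtain ⟨z₂, hz₂⟩ := exists_bf_ne J hS.det hv0
    have h := rank_gt (X := nl y) (A := ov J i z) (B := inL i w) (A₂ := ov J i z₂) (B₂ := inL i v) ?_ ?_ ?_
    · rw [card_rst, hy.rank] at h; omega
    · rw [hX, comp_sl, hz, one_smul]
      have hsq : (a + bf J z w • (a + 1)) * (a + bf J z w • (a + 1)) = (1 : Matrix (Rst k i) (Rst k i) F) := by
        simp only [mul_add, add_mul, smul_mul_assoc, mul_smul_comm, haa, smul_smul, one_mul, mul_one, smul_add]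
        match_scalars <;>
          first
          | linear_combination (bf J z w + bf J z w * bf J z w) * hS.two
          | linear_combination (bf J z w + bf J z w * bf J z w) * hS.two - 0
          | ring
      exact ⟨⟨_, _, hsq, hsq⟩, rfl⟩
    · rw [hX, comp_sl, hSv v huv' hχv, bf, mulVec_zero, dotProduct_zero, hzv, zero_smul, zero_smul, add_zero]
    · rw [hX, comp_sl, hSv v huv' hχv, bf, mulVec_zero, dotProduct_zero, zero_smul, zero_add, hS.swap z₂ v]
      exact smul_ne_zero hz₂ fun e => ha1 ((eq_neg_of_add_eq_zero_left e).trans (neg_self hS.two _))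
  subst ha1
  by_cases hχu : ∀ s : F, χ ≠ s • u
  swap
  · push Not at hχu
    obtain ⟨s, hs⟩ := hχu
    have hSeq : S = κ • rk J u u := by
      rw [hSd, hS₀, hs, rk_smul_right, rk_smul_left, dbl hS.two, zero_add]
    obtain ⟨r, hr⟩ := isSquare_two hS.two κ
    have hκ0 : κ ≠ 0 := fun e => hS0 (by rw [hSeq, e, zero_smul])
    refine ⟨i, r • u, smul_ne_zero (fun e => hκ0 (by rw [hr, e, mul_zero])) hu, ?_⟩
    show Y₀ = _
    rw [hYeq, hSeq, hE, LWreath.ext_one, Matrix.mul_one, rk_smul_left, rk_smul_right, smul_smul, ← hr, add_comm]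
  exfalso
  have hχu' : ∀ s : F, u ≠ s • χ := fun s e => by
    rcases eq_or_ne s 0 with rfl | hs
    · exact hu (by rw [e, zero_smul])
    · exact hχu s⁻¹ (by rw [e, inv_smul_smul₀ hs])
  obtain ⟨w₁, hχw₁, huw₁⟩ := hS.dual2 hχu'
  obtain ⟨w₂, huw₂, hχw₂⟩ := hS.dual2 hχu
  have hS1 : S *ᵥ w₁ = χ + κ • u := by
    rw [hSd, hS₀, add_mulVec, add_mulVec, smul_mulVec, rk_mulVec, rk_mulVec, rk_mulVec, hχw₁, huw₁, zero_smul,
      zero_add, one_smul, one_smul]
  have hS2 : S *ᵥ w₂ = u := by
    rw [hSd, hS₀, add_mulVec, add_mulVec, smul_mulVec, rk_mulVec, rk_mulVec, rk_mulVec, huw₂, hχw₂]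
    simp
  have hrk := block_sl (J := J) (i := i) (ι := Fin 2) ![w₂, w₁ + κ • w₂] ![w₁, w₂] (S := S)
    (a := (1 : Matrix (Rst k i) (Rst k i) F)) (c := 0) isUnit_one (mul_zero _) (Commute.zero_right _) fun j l => by
      fin_cases j <;> fin_cases l <;>
        simp [hS1, hS2, bf_add_left, bf_add_right, bf_smul_left, bf_smul_right, hS.swap w₁ χ, hS.swap w₁ u,
          hS.swap w₂ χ, hS.swap w₂ u, huw₁, hχw₁, huw₂, hχw₂] <;> exact dbl' (F := F) hS.two (M := F) κ
  rw [dbl hS.two (1 : Matrix (Rst k i) (Rst k i) F)] at hX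
  rw [← hX, hy.rank, Fintype.card_fin] at hrk
  have := hS.nn_pos
  omega

end Setting

end Cfsg.Agent.ClassicalMax.OWreath.Two
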