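import Cfsg.Agent.ClassicalMax.OWreath.Two.Aop

/-!
Characteristic two: ranks of the nilpotent parts of involutions built from slot root elements and operators on the
other slots.
-/

set_option autoImplicit false
set_option linter.unusedSectionVars false

namespace Cfsg.Agent.ClassicalMax.OWreath.Two

open Matrix Cfsg.Agent.ClassicalMax.TPow
open Cfsg.Agent.ClassicalMax.LWreath (Rst at1_inj at1 inL outL ext outL_inL inL_outL inL_mul_outL fu InH rs)
open Cfsg.Agent.ClassicalMax.SpWreath (GV GV_det)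
open scoped Kronecker

variable {F : Type*} [Field F] [Finite F] {k t : ℕ} {J : Matrix (Fin k) (Fin k) F}
  {H : Subgroup (GL (Fin t → Fin k) F)} {i : Fin t}

/-- the dimension of the tensor product of all slots but one -/
def NN (k t : ℕ) : ℕ := k ^ (t - 1)

theorem card_rst (i : Fin t) : Fintype.card (Rst k i) = NN k t := by
  have hc : Fintype.card (Rest (at1 i)) = t - 1 := by
    refine (@Fintype.card_of_subtype _ _ (Finset.univ.erase i) (fun j => ?_) (instFintypeRest (at1 i))).trans ?_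
    · simp [at1, eq_comm]
    · rw [Finset.card_erase_of_mem (Finset.mem_univ i), Finset.card_univ, Fintype.card_fin]
  rw [Fintype.card_fun, Fintype.card_fin, hc, NN]

/-- the difference with the identity -/
def nl (y : GL (Fin t → Fin k) F) : Matrix (Fin t → Fin k) (Fin t → Fin k) F :=
  (y : Matrix (Fin t → Fin k) (Fin t → Fin k) F) + 1

theorem nl_of_eq (h2 : (2 : F) = 0) {y : GL (Fin t → Fin k) F} {X : Matrix (Fin t → Fin k) (Fin t → Fin k) F}
    (h : (y : Matrix (Fin t → Fin k) (Fin t → Fin k) F) = 1 + X) : nl y = X := by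
  rw [nl, h, add_comm 1 X, add_assoc, dbl h2, add_zero]

theorem eq_of_nl (h2 : (2 : F) = 0) (y : GL (Fin t → Fin k) F) :
    (y : Matrix (Fin t → Fin k) (Fin t → Fin k) F) = 1 + nl y := by
  rw [nl, add_comm (y : Matrix (Fin t → Fin k) (Fin t → Fin k) F), ← add_assoc, dbl h2, zero_add]

theorem rank_conj (g y : GL (Fin t → Fin k) F) : (nl (g * y * g⁻¹)).rank = (nl y).rank := by
  have e : nl (g * y * g⁻¹) = (g : Matrix (Fin t → Fin k) (Fin t → Fin k) F) * nl y *
      ((g⁻¹ : GL (Fin t → Fin k) F) : Matrix (Fin t → Fin k) (Fin t → Fin k) F) := by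
    rw [nl, nl, Units.val_mul, Units.val_mul, mul_add, add_mul, mul_one, ← Units.val_mul g g⁻¹, mul_inv_cancel,
      Units.val_one]
  rw [e, rank_mul_eq_left_of_isUnit_det _ _ ((isUnit_iff_isUnit_det _).1 g⁻¹.isUnit),
    rank_mul_eq_right_of_isUnit_det _ _ ((isUnit_iff_isUnit_det _).1 g.isUnit)]

theorem rank_eq_of_conj {g x y : GL (Fin t → Fin k) F} (h : g * x * g⁻¹ = y) : (nl x).rank = (nl y).rank := by
  rw [← h, rank_conj]

theorem rank_add_le' {ν μ : Type} [Fintype ν] [Fintype μ] (A B : Matrix ν μ F) :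
    (A + B).rank ≤ A.rank + B.rank := by
  rw [Matrix.rank, Matrix.rank, Matrix.rank, mulVecLin_add]
  exact (Submodule.finrank_mono (LinearMap.range_add_le _ _)).trans (Submodule.finrank_add_le_finrank_add_finrank _ _)

theorem rank_nl_mul (h2 : (2 : F) = 0) (x y : GL (Fin t → Fin k) F) :
    (nl (x * y)).rank ≤ (nl x).rank + (nl y).rank := by
  have e : nl (x * y) = (x : Matrix (Fin t → Fin k) (Fin t → Fin k) F) * nl y + nl x := by
    rw [nl, nl, nl, Units.val_mul, mul_add, mul_one, add_assoc,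
      ← add_assoc (x : Matrix (Fin t → Fin k) (Fin t → Fin k) F), dbl h2, zero_add]
  rw [e]
  refine (rank_add_le' _ _).trans (le_of_eq ?_)
  rw [rank_mul_eq_right_of_isUnit_det _ _ ((isUnit_iff_isUnit_det _).1 x.isUnit), add_comm]

/-- a matrix whose rank is that of an invertible compression factors through it -/
theorem factor_of_rank {ν μ ρ : Type} [Fintype ν] [Fintype μ] [Fintype ρ] [DecidableEq ρ] [DecidableEq μ]
    {X : Matrix ν μ F} {A : Matrix ρ ν F} {B : Matrix μ ρ F} (h : A * X * B = 1) (hr : X.rank ≤ Fintype.card ρ) :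
    X = X * B * (A * X) := by
  have hsurj : Function.Surjective (A * X).mulVecLin := fun v => ⟨B *ᵥ v, by
    rw [mulVecLin_apply, mulVec_mulVec, h, one_mulVec]⟩
  have hle : LinearMap.ker X.mulVecLin ≤ LinearMap.ker (A * X).mulVecLin := fun v hv => by
    rw [LinearMap.mem_ker, mulVecLin_apply] at hv ⊢
    rw [← mulVec_mulVec, hv, mulVec_zero]
  have h1 := LinearMap.finrank_range_add_finrank_ker X.mulVecLin
  have h2 := LinearMap.finrank_range_add_finrank_ker (A * X).mulVecLin
  rw [LinearMap.range_eq_top.2 hsurj, finrank_top, Module.finrank_fintype_fun_eq_card F] at h2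
  have h3 : X.rank = Module.finrank F (LinearMap.range X.mulVecLin) := rfl
  have hke := Submodule.eq_of_le_of_finrank_le hle (by omega)
  refine Matrix.toLin'.injective (LinearMap.ext fun v => ?_)
  have hv : v - B *ᵥ ((A * X) *ᵥ v) ∈ LinearMap.ker (A * X).mulVecLin := by
    rw [LinearMap.mem_ker, mulVecLin_apply, mulVec_sub, mulVec_mulVec _ (A * X) B, h, one_mulVec, sub_self]
  rw [← hke, LinearMap.mem_ker, mulVecLin_apply, mulVec_sub, sub_eq_zero] at hv
  rw [Matrix.toLin'_apply, Matrix.toLin'_apply, hv]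
  simp only [← mulVec_mulVec]

/-- a triangular compression with a further non-zero entry -/
theorem rank_gt {ν ρ α β : Type} [Fintype ν] [DecidableEq ν] [Fintype ρ] [DecidableEq ρ] [Fintype α] [Fintype β]
    {X : Matrix ν ν F} {A : Matrix ρ ν F} {B : Matrix ν ρ F} {A₂ : Matrix α ν F} {B₂ : Matrix ν β F}
    (h1 : IsUnit (A * X * B)) (h0 : A * X * B₂ = 0) (hne : A₂ * X * B₂ ≠ 0) : Fintype.card ρ < X.rank := by
  obtain ⟨U, hU⟩ := h1
  by_contra! hr
  refine hne ?_
  have h := factor_of_rank (A := (↑U⁻¹ : Matrix ρ ρ F) * A) (B := B)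
    (by rw [Matrix.mul_assoc, Matrix.mul_assoc, ← Matrix.mul_assoc A, ← hU, Units.inv_mul]) hr
  rw [h]
  simp only [Matrix.mul_assoc] at h0 ⊢
  rw [h0]
  simp only [Matrix.mul_zero]

/-- compressions of a slot operator with operators on the other slots -/
theorem comp_sl (z w : Fin k → F) (S : Matrix (Fin k) (Fin k) F) (a c : Matrix (Rst k i) (Rst k i) F) :
    ov J i z * (sl i S * ext i a + ext i c) * inL i w = bf J z (S *ᵥ w) • a + bf J z w • c := by
  simp only [Matrix.mul_add, Matrix.add_mul, Matrix.mul_assoc, LWreath.ext_mul_inL, ← Matrix.mul_assoc (sl i S),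
    sl_iv, ov_iv_mul]

/-- a compression which is invertible blockwise -/
theorem block_le {ι : Type} [Fintype ι] [DecidableEq ι] (z w : ι → Fin k → F)
    {X : Matrix (Fin t → Fin k) (Fin t → Fin k) F} {a c : Matrix (Rst k i) (Rst k i) F} (ha : IsUnit a)
    (hc : c * c = 0) (hac : Commute a c) (M : Matrix ι ι F)
    (hM : ∀ j l, ov J i (z j) * X * inL i (w l) = (1 : Matrix ι ι F) j l • a + M j l • c) :
    Fintype.card ι * NN k t ≤ X.rank := by
  let A : Matrix (ι × Rst k i) (Fin t → Fin k) F := Matrix.of fun p x => ov J i (z p.1) p.2 x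
  let B : Matrix (Fin t → Fin k) (ι × Rst k i) F := Matrix.of fun x p => inL i (w p.1) x p.2
  have e : A * X * B = (1 : Matrix ι ι F) ⊗ₖ a + M ⊗ₖ c := by
    ext ⟨j, x⟩ ⟨l, y⟩
    have h := congrFun (congrFun (hM j l) x) y
    simp only [Matrix.add_apply, Matrix.smul_apply, smul_eq_mul] at h
    rw [Matrix.add_apply, Matrix.kroneckerMap_apply, Matrix.kroneckerMap_apply, ← h]
    rfl
  have hu : IsUnit ((1 : Matrix ι ι F) ⊗ₖ a + M ⊗ₖ c) := by
    refine IsNilpotent.isUnit_add_left_of_commute ⟨2, ?_⟩ ?_ ?_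
    · rw [pow_two, ← mul_kronecker_mul, hc, kronecker_zero]
    · obtain ⟨U, rfl⟩ := ha
      exact ⟨⟨(1 : Matrix ι ι F) ⊗ₖ (U : Matrix (Rst k i) (Rst k i) F), (1 : Matrix ι ι F) ⊗ₖ (↑U⁻¹),
        by rw [← mul_kronecker_mul, one_mul, Units.mul_inv, one_kronecker_one],
        by rw [← mul_kronecker_mul, one_mul, Units.inv_mul, one_kronecker_one]⟩, rfl⟩
    · show _ = _
      rw [← mul_kronecker_mul, ← mul_kronecker_mul, mul_one, one_mul, hac.symm.eq]
  have h1 := (rank_mul_le_left (A * X) B).trans (rank_mul_le_right A X)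
  rwa [e, rank_of_isUnit _ hu, Fintype.card_prod, card_rst] at h1

theorem block_sl {ι : Type} [Fintype ι] [DecidableEq ι] (z w : ι → Fin k → F) {S : Matrix (Fin k) (Fin k) F}
    {a c : Matrix (Rst k i) (Rst k i) F} (ha : IsUnit a) (hc : c * c = 0) (hac : Commute a c)
    (hSw : ∀ j l, bf J (z j) (S *ᵥ w l) = (1 : Matrix ι ι F) j l) :
    Fintype.card ι * NN k t ≤ (sl i S * ext i a + ext i c).rank :=
  block_le z w ha hc hac (Matrix.of fun j l => bf J (z j) (w l)) fun j l => by rw [comp_sl, hSw, Matrix.of_apply]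

namespace Setting

variable (hS : Setting J H)
include hS

theorem sq_zero_rt (i : Fin t) (u : Fin k → F) : sl i (rk J u u) * sl i (rk J u u) = 0 := by
  rw [sl_mul, rk_mul_rk, hS.alt, zero_smul, sl_zero]

/-- the slot root element -/
noncomputable def rt (i : Fin t) (u : Fin k → F) : GL (Fin t → Fin k) F :=
  LWreath.uni _ (hS.sq_zero_rt i u)

theorem rt_val (i : Fin t) (u : Fin k → F) :
    (hS.rt i u : Matrix (Fin t → Fin k) (Fin t → Fin k) F) = 1 + sl i (rk J u u) := rfl

theorem rt_mem (i : Fin t) (u : Fin k → F) : hS.rt i u ∈ H := by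
  obtain ⟨g, hg, ge⟩ := hS.root i u
  rwa [show hS.rt i u = g from Units.ext ge.symm]

theorem rt_sq (i : Fin t) (u : Fin k → F) : hS.rt i u * hS.rt i u = 1 := Units.ext (by
  rw [Units.val_mul, hS.rt_val, sq_one hS.two (hS.sq_zero_rt i u), Units.val_one])

theorem nl_rt (i : Fin t) (u : Fin k → F) : nl (hS.rt i u) = sl i (rk J u u) := nl_of_eq hS.two (hS.rt_val i u)

theorem nn_pos : 0 < NN k t := pow_pos (by have := hS.dim; omega) _

theorem nonempty_rst (i : Fin t) : Nonempty (Rst k i) :=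
  ⟨fun _ => ⟨0, by have := hS.dim; omega⟩⟩

theorem smul_one_ne_zero (i : Fin t) {a : Matrix (Rst k i) (Rst k i) F} (ha : IsUnit a) : a ≠ 0 := by
  haveI := hS.nonempty_rst i
  exact ha.ne_zero

theorem rank_rt (i : Fin t) {u : Fin k → F} (hu : u ≠ 0) : (sl i (rk J u u)).rank = NN k t := by
  refine le_antisymm ?_ ?_
  · rw [← iv_ov, ← card_rst i]
    exact (rank_mul_le_left _ _).trans (rank_le_card_width _)
  · obtain ⟨z₀, hz₀⟩ := exists_bf_ne J hS.det hu
    set z := (bf J u z₀)⁻¹ • z₀
    have hz : bf J u z = 1 := by rw [bf_smul_right, inv_mul_cancel₀ hz₀]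
    have h := block_sl (J := J) (i := i) (ι := Unit) (fun _ => z) (fun _ => z) (S := rk J u u) (a := 1) (c := 0)
      isUnit_one (mul_zero _) (Commute.zero_right _) fun _ _ => by
        rw [rk_mulVec, hz, one_smul, hS.swap, hz, Matrix.one_apply_eq]
    rwa [LWreath.ext_one, mul_one, show (ext i (0 : Matrix (Rst k i) (Rst k i) F) : Matrix _ _ F) = 0 from by
      rw [← zero_smul F (0 : Matrix (Rst k i) (Rst k i) F), LWreath.ext_smul, zero_smul], add_zero, Fintype.card_unit,
      one_mul] at h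

theorem rank_nl_rt (i : Fin t) {u : Fin k → F} (hu : u ≠ 0) : (nl (hS.rt i u)).rank = NN k t := by
  rw [hS.nl_rt, hS.rank_rt i hu]

/-- the product of two slot roots in different slots has small rank -/
theorem two_slots_lt {l m : Fin t} (hlm : l ≠ m) {c p : Fin k → F} (hc : c ≠ 0) (hp : p ≠ 0) :
    (nl (hS.rt l c * hS.rt m p)).rank < 2 * NN k t := by
  set A := sl l (rk J c c) with hA
  set B := sl m (rk J p p) with hB
  have hAB : A * B = B * A := (sl_commute hlm _ _).eq
  have e : nl (hS.rt l c * hS.rt m p) = A + B + A * B := nl_of_eq hS.two (by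
    rw [Units.val_mul, hS.rt_val, hS.rt_val]; noncomm_ring)
  rw [e, Matrix.rank, two_mul]
  have hne : A * B ≠ 0 := by
    rw [hA, hB, sl, sl, tens_mul]
    intro h0
    obtain ⟨j, hj⟩ := tens_eq_zero_iff.1 h0
    rw [Pi.mul_apply] at hj
    rcases eq_or_ne j l with rfl | hjl
    · rw [Function.update_self, Function.update_of_ne hlm, Pi.one_apply, mul_one] at hj
      exact rk_eq_zero J hS.det hc hc hj
    rcases eq_or_ne j m with rfl | hjm
    · rw [Function.update_self, Function.update_of_ne hjl, Pi.one_apply, one_mul] at hj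
      exact rk_eq_zero J hS.det hp hp hj
    · rw [Function.update_of_ne hjm, Function.update_of_ne hjl, Pi.one_apply, mul_one] at hj
      haveI : Nonempty (Fin k) := ⟨⟨0, by have := hS.dim; omega⟩⟩
      exact one_ne_zero hj
  have hle : LinearMap.range (A + B + A * B).mulVecLin ≤
      LinearMap.range A.mulVecLin ⊔ LinearMap.range B.mulVecLin := by
    rintro _ ⟨v, rfl⟩
    rw [mulVecLin_apply, add_mulVec, add_mulVec, ← mulVec_mulVec]
    exact Submodule.add_mem _ (Submodule.add_mem _ (Submodule.mem_sup_left ⟨v, rfl⟩)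
      (Submodule.mem_sup_right ⟨v, rfl⟩)) (Submodule.mem_sup_left ⟨_, rfl⟩)
  obtain ⟨v, hv⟩ : ∃ v, (A * B) *ᵥ v ≠ 0 := by
    by_contra! h
    exact hne (Matrix.toLin'.injective (LinearMap.ext fun v => by simpa using h v))
  have hinf : LinearMap.range A.mulVecLin ⊓ LinearMap.range B.mulVecLin ≠ ⊥ := fun h => by
    have h1 : (A * B) *ᵥ v ∈ LinearMap.range A.mulVecLin ⊓ LinearMap.range B.mulVecLin :=
      ⟨⟨B *ᵥ v, by rw [mulVecLin_apply, mulVec_mulVec]⟩, ⟨A *ᵥ v, by rw [mulVecLin_apply, mulVec_mulVec, hAB]⟩⟩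
    rw [h, Submodule.mem_bot] at h1
    exact hv h1
  have h1 := Submodule.finrank_mono hle
  have h2 := Submodule.finrank_sup_add_finrank_inf_eq (LinearMap.range A.mulVecLin) (LinearMap.range B.mulVecLin)
  have h3 : 0 < Module.finrank F (LinearMap.range A.mulVecLin ⊓ LinearMap.range B.mulVecLin :
      Submodule F ((Fin t → Fin k) → F)) := Nat.pos_of_ne_zero fun h => hinf (Submodule.finrank_eq_zero.1 h)
  have hAr : Module.finrank F (LinearMap.range A.mulVecLin) = NN k t := hS.rank_rt l hc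
  have hBr : Module.finrank F (LinearMap.range B.mulVecLin) = NN k t := hS.rank_rt m hp
  omega

/-- a slot root times a non-trivial operator on the other slots has large rank -/
theorem root_ext_gt {u : Fin k → F} (hu : u ≠ 0) {a c : Matrix (Rst k i) (Rst k i) F} (ha : IsUnit a) (hc : c ≠ 0) :
    NN k t < (sl i (rk J u u) * ext i a + ext i c).rank := by
  obtain ⟨z₀, hz₀⟩ := exists_bf_ne J hS.det hu
  set w := (bf J u z₀)⁻¹ • z₀
  have hw : bf J u w = 1 := by rw [bf_smul_right, inv_mul_cancel₀ hz₀]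
  obtain ⟨v, huv, hwv, hv⟩ := hS.perp2 u w
  obtain ⟨z, huz, hvz⟩ := hS.dual2 (u := u) (v := v)
    fun s e => hv (e ▸ Submodule.smul_mem _ _ (Submodule.subset_span ⟨0, rfl⟩))
  rw [← card_rst i]
  refine rank_gt (A := ov J i w) (B := inL i w) (B₂ := inL i v) (A₂ := ov J i z) ?_ ?_ ?_
  · rw [comp_sl, rk_mulVec, hw, one_smul, hS.swap w u, hw, one_smul, hS.alt, zero_smul, add_zero]
    exact ha
  · rw [comp_sl, rk_mulVec, huv, zero_smul, bf, mulVec_zero, dotProduct_zero, hwv, zero_smul, zero_smul, add_zero]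
  · rw [comp_sl, rk_mulVec, huv, zero_smul, bf, mulVec_zero, dotProduct_zero, zero_smul, zero_add, hS.swap z v, hvz,
      one_smul]
    exact hc

end Setting

end Cfsg.Agent.ClassicalMax.OWreath.Two
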