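import Cfsg.Agent.ClassicalMax.OWreath.Two.Invol
import Cfsg.Agent.ClassicalMax.OWreath.Two.Group

/-!
Characteristic two, all attached operators scalar: every involution of smallest rank is a slot root element, so the
group normalises the decomposition.
-/

set_option autoImplicit false
set_option linter.unusedSectionVars false
set_option linter.style.haveILetI false

namespace Cfsg.Agent.ClassicalMax.OWreath.Two

open Matrix Cfsg.Agent.ClassicalMax.TPow
open Cfsg.Agent.ClassicalMax.LWreath (Rst at1_inj at1 inL outL ext outL_inL inL_outL inL_mul_outL fu InH rs)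
open Cfsg.Agent.ClassicalMax.SpWreath (GV GV_det)

variable {F : Type*} [Field F] [Finite F] {k t : ℕ} {J : Matrix (Fin k) (Fin k) F}
  {H : Subgroup (GL (Fin t → Fin k) F)} {i : Fin t} {T : Finset (Fin t)}

/-- the elements centralising the slots of a set -/
def cenG (T : Finset (Fin t)) : Subgroup (GL (Fin t → Fin k) F) where
  carrier := {g | Cen T g}
  one_mem' := fun j _ A => by rw [Units.val_one]; exact Commute.one_left _
  mul_mem' := fun {a b} ha hb j hj A => by rw [Units.val_mul]; exact (ha j hj A).mul_left (hb j hj A)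
  inv_mem' := fun {a} ha j hj A => (ha j hj A).units_inv_left

theorem sl_add_one (j : Fin t) (A : Matrix (Fin k) (Fin k) F) : sl j (A + 1) = sl j A + 1 := by rw [sl_add, sl_one]

theorem commute_of_closure {G : Type*} [Group G] {x y z d : G} (hd : d ∈ Subgroup.closure ({x, y} : Set G))
    (hx : Commute z x) (hy : Commute z y) : Commute z d := by
  have hle : Subgroup.closure ({x, y} : Set G) ≤ Subgroup.centralizer {z} := by
    rw [Subgroup.closure_le]
    rintro g (rfl | rfl)
    · exact Subgroup.mem_centralizer_singleton_iff.2 hx.symm.eq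
    · exact Subgroup.mem_centralizer_singleton_iff.2 hy.symm.eq
  exact (Subgroup.mem_centralizer_singleton_iff.1 (hle hd) : d * z = z * d).symm

namespace Setting

variable (hS : Setting J H)
include hS

theorem ext_inj (i : Fin t) {M N : Matrix (Rst k i) (Rst k i) F} (h : ext i M = ext i N) : M = N := by
  obtain ⟨u, hu⟩ : ∃ u : Fin k → F, u ≠ 0 :=
    ⟨Pi.single ⟨0, by have := hS.dim; omega⟩ 1, by simp⟩
  obtain ⟨z, hz⟩ := exists_bf_ne J hS.det hu
  have h1 := congrArg (fun X => ov J i u * X * inL i z) h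
  simp only [Matrix.mul_assoc, LWreath.ext_mul_inL, ov_iv_mul] at h1
  exact (smul_right_injective _ hz) h1

theorem slot_nonempty : Nonempty (Fin k) := ⟨⟨0, by have := hS.dim; omega⟩⟩

theorem exists_dual {u : Fin k → F} (hu : u ≠ 0) : ∃ z, bf J u z = 1 := by
  obtain ⟨z, hz⟩ := exists_bf_ne J hS.det hu
  exact ⟨(bf J u z)⁻¹ • z, by rw [bf_smul_right, inv_mul_cancel₀ hz]⟩

theorem exists_perp_indep {u : Fin k → F} : ∃ b, bf J u b = 0 ∧ ∀ s : F, b ≠ s • u := by
  obtain ⟨b, h1, -, h2⟩ := hS.perp2 u u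
  exact ⟨b, h1, fun s e => h2 (e ▸ Submodule.smul_mem _ _ (Submodule.subset_span ⟨0, rfl⟩))⟩

theorem root_commute {u c : Fin k → F} (h : Commute (rk J u u) (rk J c c)) : bf J u c = 0 := by
  have h1 := congrArg (· *ᵥ c) h.eq
  simp only [rk_mul_rk, smul_mulVec, rk_mulVec, hS.alt, hS.swap c u, zero_smul, smul_zero] at h1
  by_contra hb
  have hc : c ≠ 0 := fun e => hb (by rw [e, bf, mulVec_zero, dotProduct_zero])
  exact smul_ne_zero hb (smul_ne_zero hb hc) h1.symm

theorem rt_commute_iff (i : Fin t) (u c : Fin k → F) : Commute (hS.rt i u) (hS.rt i c) ↔ bf J u c = 0 := by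
  haveI := hS.slot_nonempty
  constructor
  · intro h
    refine hS.root_commute ?_
    have h1 := congrArg (fun g : GL (Fin t → Fin k) F => (g : Matrix (Fin t → Fin k) (Fin t → Fin k) F)) h.eq
    simp only [Units.val_mul, hS.rt_val, mul_add, add_mul, one_mul, mul_one, sl_mul] at h1
    refine sl_injective i (show sl i (rk J u u * rk J c c) = sl i (rk J c c * rk J u u) from ?_)
    refine add_left_cancel (a := 1 + sl i (rk J u u) + sl i (rk J c c)) ?_
    calc 1 + sl i (rk J u u) + sl i (rk J c c) + sl i (rk J u u * rk J c c)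
        = 1 + sl i (rk J u u) + (sl i (rk J c c) + sl i (rk J u u * rk J c c)) := by abel
      _ = 1 + sl i (rk J c c) + (sl i (rk J u u) + sl i (rk J c c * rk J u u)) := h1
      _ = _ := by abel
  · intro h
    refine Units.ext ?_
    rw [Units.val_mul, Units.val_mul, hS.rt_val, hS.rt_val]
    simp only [mul_add, add_mul, one_mul, mul_one, sl_mul, rk_mul_rk, h, hS.swap c u, zero_smul, sl_zero]
    abel

theorem rt_commute_ne {l n : Fin t} (h : l ≠ n) (u c : Fin k → F) : Commute (hS.rt l u) (hS.rt n c) := by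
  refine Units.ext ?_
  rw [Units.val_mul, Units.val_mul, hS.rt_val, hS.rt_val]
  exact (((Commute.one_left _).add_left ((Commute.one_right _).add_right (sl_commute h _ _)))).eq

theorem rt_inj {i : Fin t} {u c : Fin k → F} (hu : u ≠ 0) (h : hS.rt i u = hS.rt i c) : u = c := by
  haveI := hS.slot_nonempty
  have h1 := congrArg (fun g : GL (Fin t → Fin k) F => (g : Matrix (Fin t → Fin k) (Fin t → Fin k) F)) h
  simp only [hS.rt_val, add_right_inj] at h1
  have h2 : rk J u u = rk J c c := sl_injective i h1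
  obtain ⟨z, hz⟩ := hS.exists_dual hu
  have h3 := congrArg (· *ᵥ z) h2
  simp only [rk_mulVec, hz, one_smul] at h3
  have h4 : bf J u z = bf J c z * bf J c z := by
    conv_lhs => rw [h3, bf_smul_left]
  rw [hz] at h4
  have h5 : bf J c z = 1 := by
    have h6 : (bf J c z + 1) * (bf J c z + 1) = 0 := by linear_combination -h4 + bf J c z * hS.two + hS.two
    have := (mul_self_eq_zero.1 h6)
    linear_combination this - hS.two
  rw [h3, h5, one_smul]

theorem small_rt {i : Fin t} (hi : i ∉ T) {u : Fin k → F} (hu : u ≠ 0) : Small J H T (hS.rt i u) where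
  mem := hS.rt_mem i u
  sq := hS.rt_sq i u
  cen j hj A := by
    rw [hS.rt_val]
    exact (Commute.one_left _).add_left (sl_commute (fun e => hi (by rw [e]; exact hj)) _ _)
  rank := hS.rank_nl_rt i hu

theorem rt_of_slot {y : GL (Fin t → Fin k) F} (hy : Small J H T y) (h : Slot J y) :
    ∃ (l : Fin t) (p : Fin k → F), l ∉ T ∧ p ≠ 0 ∧ y = hS.rt l p := by
  haveI := hS.slot_nonempty
  obtain ⟨l, p, hp, e⟩ := h
  refine ⟨l, p, fun hl => ?_, hp, Units.ext (by rw [e, hS.rt_val])⟩
  obtain ⟨z, hz⟩ := hS.exists_dual hp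
  have h1 := hy.cen l hl (rk J z z)
  rw [e] at h1
  have h2 : Commute (rk J p p) (rk J z z) := by
    refine sl_injective l ?_
    rw [← sl_mul, ← sl_mul]
    have h3 := h1.eq
    rw [add_mul, mul_add, one_mul, mul_one, add_right_inj] at h3
    exact h3
  exact one_ne_zero (hz.symm.trans (hS.root_commute h2))

theorem outer_rt {i n : Fin t} (h : n ≠ i) (p : Fin k → F) :
    ∃ N : Matrix (Rst k i) (Rst k i) F, (hS.rt n p : Matrix (Fin t → Fin k) (Fin t → Fin k) F) = ext i N :=
  ⟨1 + sl (rs h) (rk J p p), by rw [hS.rt_val, LWreath.ext_add, LWreath.ext_one, ← LWreath.sl_eq_ext h]⟩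

/-- products of two orthogonal roots of a slot and operators on the other slots -/
theorem pair_val {u v : Fin k → F} (huv : bf J u v = 0) :
    ((hS.rt i u * hS.rt i v : GL (Fin t → Fin k) F) : Matrix (Fin t → Fin k) (Fin t → Fin k) F) =
      1 + sl i (rk J u u + rk J v v) := by
  rw [Units.val_mul, hS.rt_val, hS.rt_val, sl_add]
  simp only [mul_add, add_mul, one_mul, mul_one, sl_mul, rk_mul_rk, huv, zero_smul, sl_zero]
  abel

theorem triple_val {u v b : Fin k → F} (huv : bf J u v = 0) (hub : bf J u b = 0) (hvb : bf J v b = 0) :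
    ((hS.rt i u * hS.rt i v * hS.rt i b : GL (Fin t → Fin k) F) : Matrix (Fin t → Fin k) (Fin t → Fin k) F) =
      1 + sl i (rk J u u + rk J v v + rk J b b) := by
  rw [Units.val_mul, hS.pair_val huv, hS.rt_val, sl_add, sl_add, sl_add]
  simp only [mul_add, add_mul, one_mul, mul_one, sl_mul, rk_mul_rk, hub, hvb, zero_smul, sl_zero]
  abel

/-- a slot operator times an operator on the other slots -/
theorem nl_outer {g h : GL (Fin t → Fin k) F} {S : Matrix (Fin k) (Fin k) F} {N : Matrix (Rst k i) (Rst k i) F}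
    (hg : (g : Matrix (Fin t → Fin k) (Fin t → Fin k) F) = 1 + sl i S)
    (hh : (h : Matrix (Fin t → Fin k) (Fin t → Fin k) F) = ext i N) :
    nl (g * h) = sl i S * ext i N + ext i (N + 1) := by
  rw [nl, Units.val_mul, hg, hh, add_mul, one_mul, LWreath.ext_add, LWreath.ext_one]
  abel

theorem outer_inv {h : GL (Fin t → Fin k) F} (hh : h * h = 1) {N : Matrix (Rst k i) (Rst k i) F}
    (e : (h : Matrix (Fin t → Fin k) (Fin t → Fin k) F) = ext i N) :
    IsUnit N ∧ (N + 1) * (N + 1) = 0 ∧ Commute N (N + 1) := by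
  have h1 : N * N = 1 := hS.ext_inj i (by rw [LWreath.ext_mul, ← e, ← Units.val_mul, hh, Units.val_one, LWreath.ext_one])
  refine ⟨⟨⟨N, N, h1, h1⟩, rfl⟩, ?_, (Commute.refl N).add_right (Commute.one_right N)⟩
  rw [mul_add, mul_one, add_mul, one_mul, h1, add_comm (1 : Matrix (Rst k i) (Rst k i) F) N, dbl hS.two]

theorem pair_ext_ge {u v : Fin k → F} (hu : u ≠ 0) (huv : bf J u v = 0) (hv : ∀ s : F, v ≠ s • u)
    {h : GL (Fin t → Fin k) F} (hh : h * h = 1) {N : Matrix (Rst k i) (Rst k i) F}
    (e : (h : Matrix (Fin t → Fin k) (Fin t → Fin k) F) = ext i N) :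
    2 * NN k t ≤ (nl (hS.rt i u * hS.rt i v * h)).rank := by
  obtain ⟨ha, hc, hac⟩ := hS.outer_inv hh e
  obtain ⟨u', v', _, _, huu', hvv', huv', hvu', -⟩ := hS.frame hu huv hv
  rw [nl_outer hS (hS.pair_val huv) e]
  have h1 := block_sl (J := J) (i := i) (ι := Fin 2) ![u', v'] ![u', v'] (S := rk J u u + rk J v v) ha hc hac
    fun j l => by
      fin_cases j <;> fin_cases l <;>
        simp [add_mulVec, rk_mulVec, bf_smul_right, hS.swap u' u, hS.swap u' v, hS.swap v' u,
          hS.swap v' v, huu', hvv', huv', hvu']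
  rwa [Fintype.card_fin] at h1

theorem pair_rank_ge {u v : Fin k → F} (hu : u ≠ 0) (huv : bf J u v = 0) (hv : ∀ s : F, v ≠ s • u) :
    2 * NN k t ≤ (nl (hS.rt i u * hS.rt i v)).rank := by
  have h := hS.pair_ext_ge (i := i) hu huv hv (h := 1) (mul_one 1) (N := 1) (by rw [Units.val_one, LWreath.ext_one])
  rwa [mul_one] at h

theorem triple_ext_ge {u v : Fin k → F} (hu : u ≠ 0) (huv : bf J u v = 0) (hv : ∀ s : F, v ≠ s • u) :
    ∃ b, b ≠ 0 ∧ bf J u b = 0 ∧ bf J v b = 0 ∧ (∀ s : F, b ≠ s • u) ∧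
      ∀ {h : GL (Fin t → Fin k) F} {N : Matrix (Rst k i) (Rst k i) F}, h * h = 1 →
        (h : Matrix (Fin t → Fin k) (Fin t → Fin k) F) = ext i N →
        3 * NN k t ≤ (nl (hS.rt i u * hS.rt i v * hS.rt i b * h)).rank := by
  obtain ⟨u', v', b, q, huu', hvv', huv', hvu', -, hub, hvb, hu'b, hv'b, huq, hvq, -, -, hbq⟩ := hS.frame hu huv hv
  refine ⟨b, fun e => one_ne_zero (hbq.symm.trans (by rw [e, bf, zero_dotProduct])), hub, hvb,
    fun s e => one_ne_zero (hbq.symm.trans (by rw [e, bf_smul_left, huq, mul_zero])), fun {h N} hh e => ?_⟩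
  obtain ⟨ha, hc, hac⟩ := hS.outer_inv hh e
  rw [nl_outer hS (hS.triple_val huv hub hvb) e]
  have h1 := block_sl (J := J) (i := i) (ι := Fin 3) ![u', v', q] ![u', v', q]
    (S := rk J u u + rk J v v + rk J b b) ha hc hac fun j l => by
      fin_cases j <;> fin_cases l <;>
        simp [add_mulVec, rk_mulVec, bf_add_right, bf_smul_right, hS.swap u' u, hS.swap u' v, hS.swap v' u,
          hS.swap v' v, hS.swap q u, hS.swap q v, hS.swap q b, hS.swap b u', hS.swap b v', huu', hvv', huv', hvu',
          hu'b, hv'b, huq, hvq, hbq]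
  rwa [Fintype.card_fin] at h1

theorem stable_of_commute {y : GL (Fin t → Fin k) F} {u : Fin k → F} (hu : u ≠ 0)
    (h : Commute y (hS.rt i u)) : ∃ a : Matrix (Rst k i) (Rst k i) F,
    (y : Matrix (Fin t → Fin k) (Fin t → Fin k) F) * inL i u = inL i u * a := by
  obtain ⟨z, hz⟩ := hS.exists_dual hu
  refine ⟨ov J i u * (y : Matrix (Fin t → Fin k) (Fin t → Fin k) F) * inL i z, ?_⟩
  have h1 := congrArg (fun g : GL (Fin t → Fin k) F => (g : Matrix (Fin t → Fin k) (Fin t → Fin k) F)) h.eq
  simp only [Units.val_mul, hS.rt_val, mul_add, add_mul, one_mul, mul_one, add_right_inj, ← iv_ov] at h1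
  have h2 := congrArg (· * inL i z) h1
  simpa only [Matrix.mul_assoc, ov_iv, hz, one_smul, Matrix.mul_one] using h2

/-- an involution commuting with a slot root element -/
theorem slot_of_commute (hR : Rigid J H) (IH : ∀ i, i ∉ T → ∀ y, Small J H (insert i T) y → Slot J y) (hi : i ∉ T)
    {y : GL (Fin t → Fin k) F} (hy : Small J H T y) {u : Fin k → F} (hu : u ≠ 0) (h : Commute y (hS.rt i u)) :
    Slot J y := by
  obtain ⟨a, ha⟩ := hS.stable_of_commute hu h
  exact hS.slot_of_stable hR (IH i hi) hy hu ha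

/-- an involution commuting with an element of one slot commutes with a slot root element -/
theorem exists_fixed (hR : Rigid J H) (IH : ∀ i, i ∉ T → ∀ y, Small J H (insert i T) y → Slot J y) (hi : i ∉ T)
    {g : GL (Fin t → Fin k) F} (hg : g ∈ H) (hgg : g * g = 1) (hgc : Cen T g) {S : Matrix (Fin k) (Fin k) F}
    (hS2 : S * S = 0) (hS0 : S ≠ 0) (hSad : adjJ J S = S)
    (hcom : Commute (g : Matrix (Fin t → Fin k) (Fin t → Fin k) F) (sl i S)) :
    ∃ a, a ≠ 0 ∧ Commute g (hS.rt i a) := by
  classical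
  haveI := Fintype.ofFinite F
  haveI := hS.slot_nonempty
  haveI := hS.nonempty_rst i
  have hadj : ∀ x y, bf J x (S *ᵥ y) = bf J (S *ᵥ x) y := fun x y => by
    conv_lhs => rw [← hSad]
    rw [bf, bf, adjJ, mulVec_mulVec, ← mul_assoc, ← mul_assoc, mul_nonsing_inv _ hS.det, one_mul, ← mulVec_mulVec,
      dotProduct_mulVec x Sᵀ, vecMul_transpose]
  set G := (g : Matrix (Fin t → Fin k) (Fin t → Fin k) F) with hG
  have hgi : g⁻¹ = g := inv_eq_of_mul_eq_one_right hgg
  set L := LinearMap.range S.mulVecLin with hL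
  let A := {a // a ∈ L ∧ a ≠ 0}
  have key : ∀ a : A, ∃ p : A, g * hS.rt i a.1 * g = hS.rt i p.1 := by
    rintro ⟨a, ⟨x, hx⟩, ha0⟩
    rw [mulVecLin_apply] at hx
    set y' := g * hS.rt i a * g with hy'
    have hy'' : Small J H T y' := by
      refine ⟨mul_mem (mul_mem hg (hS.rt_mem _ _)) hg, ?_, ?_, ?_⟩
      · rw [hy', show g * hS.rt i a * g * (g * hS.rt i a * g) = g * (hS.rt i a * (g * g) * hS.rt i a) * g by
          simp only [mul_assoc], hgg, mul_one, hS.rt_sq, mul_one, hgg]
      · exact (cenG T).mul_mem ((cenG T).mul_mem hgc (hS.small_rt hi ha0).cen) hgc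
      · rw [hy']
        nth_rewrite 2 [← hgi]
        rw [rank_conj, hS.rank_nl_rt i ha0]
    have hQS : rk J a a * S = 0 := by
      refine Matrix.toLin'.injective (LinearMap.ext fun w => ?_)
      rw [Matrix.toLin'_apply, Matrix.toLin'_apply, ← mulVec_mulVec, rk_mulVec, hadj, ← hx, mulVec_mulVec, hS2,
        zero_mulVec, zero_mulVec, bf, zero_dotProduct, zero_smul]
    have ey : (y' : Matrix (Fin t → Fin k) (Fin t → Fin k) F) = 1 + G * sl i (rk J a a) * G := by
      rw [hy', Units.val_mul, Units.val_mul, hS.rt_val, ← hG, mul_add, add_mul, mul_one, hG, ← Units.val_mul, hgg,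
        Units.val_one]
    have hfix : ∀ w, G * sl i (rk J a a) * G * inL i (S *ᵥ w) = 0 := fun w => by
      rw [← sl_iv, Matrix.mul_assoc _ G, ← Matrix.mul_assoc G (sl i S), hcom.eq, Matrix.mul_assoc (sl i S),
        ← Matrix.mul_assoc (G * sl i (rk J a a)), Matrix.mul_assoc G (sl i (rk J a a)), sl_mul, hQS, sl_zero,
        Matrix.mul_zero, Matrix.zero_mul]
    have hstab : (y' : Matrix (Fin t → Fin k) (Fin t → Fin k) F) * inL i a = inL i a * (1 : Matrix (Rst k i) (Rst k i) F) := by
      have h0 := hfix x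
      rw [hx] at h0
      rw [ey, Matrix.add_mul, Matrix.one_mul, Matrix.mul_one, h0, add_zero]
    obtain ⟨l, p, -, hp, el⟩ := hS.rt_of_slot hy'' (hS.slot_of_stable hR (IH i hi) hy'' ha0 hstab)
    have eX : G * sl i (rk J a a) * G = sl l (rk J p p) := by
      have := congrArg (fun g : GL (Fin t → Fin k) F => (g : Matrix (Fin t → Fin k) (Fin t → Fin k) F)) el
      simp only [ey, hS.rt_val, add_right_inj] at this
      exact this
    obtain ⟨z, hz⟩ := hS.exists_dual hp
    have hl : l = i := by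
      by_contra hli
      have h1 := hfix x
      rw [eX, LWreath.sl_eq_ext hli, LWreath.ext_mul_inL, hx] at h1
      have h2 : ov J i ((hS.exists_dual ha0).choose) * (inL i a * sl (rs hli) (rk J p p)) = 0 := by
        rw [h1, Matrix.mul_zero]
      rw [ov_iv_mul, hS.swap, (hS.exists_dual ha0).choose_spec, one_smul] at h2
      exact rk_eq_zero J hS.det hp hp (sl_injective (rs hli) (h2.trans (sl_zero (rs hli)).symm))
    rw [hl] at eX el
    -- the new vector lies in the image
    have h1 : inL i p * (bf J p z • (1 : Matrix (Rst k i) (Rst k i) F)) =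
        sl i S * (G * sl i (rk J x a) * G * inL i z) := by
      rw [← ov_iv, ← Matrix.mul_assoc, iv_ov, ← eX, ← hx, show rk J (S *ᵥ x) (S *ᵥ x) = S * rk J x (S *ᵥ x) from
        (mul_rk J S x (S *ᵥ x)).symm, ← sl_mul, hx, ← Matrix.mul_assoc G (sl i S), hcom.eq]
      simp only [Matrix.mul_assoc]
    rw [hz, one_smul, Matrix.mul_one] at h1
    set M := G * sl i (rk J x a) * G * inL i z with hM
    obtain ⟨y₀⟩ : Nonempty (Rst k i) := inferInstance
    have hcol : p ∈ L := by
      refine ⟨fun b => (ov J i ((1 : Matrix (Fin k) (Fin k) F).row b ᵥ* J⁻¹) * M) y₀ y₀, ?_⟩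
      rw [mulVecLin_apply]
      have hM' : sl i S * M = ∑ b, inL i (S *ᵥ Pi.single b 1) *
          (ov J i ((1 : Matrix (Fin k) (Fin k) F).row b ᵥ* J⁻¹) * M) := by
        conv_lhs => rw [← Matrix.one_mul M, ← hS.resolve i, Matrix.sum_mul, Matrix.mul_sum]
        simp only [← Matrix.mul_assoc, sl_iv]
      funext c
      let X : Fin t → Fin k := (split (at1_inj i)).symm (fun _ => c, y₀)
      have hX1 : X i = c :=
        congrFun (congrArg Prod.fst ((split (at1_inj i)).apply_symm_apply ((fun _ => c), y₀))) 0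
      have hX2 : (split (at1_inj i) X).2 = y₀ := by rw [Equiv.apply_symm_apply]
      have h2 := congrFun (congrFun (h1.trans hM') X) y₀
      rw [LWreath.inL_apply, if_pos hX2, hX1, Matrix.sum_apply] at h2
      rw [h2]
      simp only [Matrix.mul_apply (M := inL i _), LWreath.inL_apply, ite_mul, zero_mul, Finset.sum_ite_eq, hX2,
        Finset.mem_univ, if_true, hX1]
      rw [mulVec, dotProduct]
      refine Finset.sum_congr rfl fun b _ => ?_
      rw [mulVec_single_one, Matrix.col_apply]
    exact ⟨⟨p, hcol, hp⟩, el⟩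
  choose f hf using key
  have hinv : Function.Involutive f := fun a => by
    refine Subtype.ext (hS.rt_inj (f (f a)).2.2 (i := i) ?_)
    rw [← hf, ← hf, show g * (g * hS.rt i a.1 * g) * g = g * g * hS.rt i a.1 * (g * g) by simp only [mul_assoc], hgg,
      one_mul, mul_one]
  obtain ⟨a, hfa⟩ : ∃ a, f a = a := by
    by_contra! hne
    haveI : CharP F 2 := CharTwo.of_one_ne_zero_of_two_eq_zero one_ne_zero hS.two
    have hsum : ∑ _a : A, (1 : ZMod 2) = 0 :=
      Finset.sum_involution (fun a _ => f a) (fun a _ => by decide) (fun a _ _ => hne a)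
        (fun a _ => Finset.mem_univ _) fun a _ => hinv a
    rw [Finset.sum_const, Finset.card_univ, nsmul_eq_mul, mul_one, ZMod.natCast_eq_zero_iff_even] at hsum
    have hcard : Fintype.card A = Fintype.card L - 1 := by
      rw [← Fintype.card_congr (Equiv.subtypeSubtypeEquivSubtypeInter (fun a => a ∈ L) fun a => a ≠ 0),
        Fintype.card_subtype_compl]
      congr 1
      rw [Fintype.card_eq_one_iff]
      exact ⟨⟨0, rfl⟩, fun b => Subtype.ext (Subtype.ext b.2)⟩
    have hpos : 0 < Module.finrank F L := Nat.pos_of_ne_zero fun e => hS0 (by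
      rw [Submodule.finrank_eq_zero, hL, LinearMap.range_eq_bot] at e
      exact Matrix.toLin'.injective (LinearMap.ext fun v => by
        rw [Matrix.toLin'_apply, Matrix.toLin'_apply, zero_mulVec, ← mulVecLin_apply, e, LinearMap.zero_apply]))
    have hq : Even (Fintype.card F) := by
      obtain ⟨n, hn, hc⟩ := FiniteField.card F 2
      rw [hc]
      exact (even_iff_two_dvd.2 (dvd_refl 2)).pow_of_ne_zero n.pos.ne'
    have hLe : Even (Fintype.card L) := by
      rw [Module.card_eq_pow_finrank (K := F) (V := L)]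
      exact hq.pow_of_ne_zero hpos.ne'
    have hL1 : 0 < Fintype.card L := Fintype.card_pos
    rw [hcard] at hsum
    obtain ⟨m, hm⟩ := hLe
    obtain ⟨n, hn⟩ := hsum
    omega
  refine ⟨a.1, a.2.2, ?_⟩
  have h := hf a
  rw [hfa] at h
  show g * hS.rt i a.1 = hS.rt i a.1 * g
  conv_rhs => rw [← h]
  rw [mul_assoc _ g g, hgg, mul_one]

/-- an involution commuting with a non-trivial involution of one slot -/
theorem slot_of_single (hR : Rigid J H) (IH : ∀ i, i ∉ T → ∀ y, Small J H (insert i T) y → Slot J y) (hi : i ∉ T)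
    {y : GL (Fin t → Fin k) F} (hy : Small J H T y) {ω : GL (Fin t → Fin k) F} (hω : ω ∈ H) (hωω : ω * ω = 1)
    (hω1 : ω ≠ 1) {S : Matrix (Fin k) (Fin k) F}
    (e : (ω : Matrix (Fin t → Fin k) (Fin t → Fin k) F) = 1 + sl i S) (h : Commute y ω) : Slot J y := by
  haveI := hS.slot_nonempty
  have hnl : nl ω = sl i S := nl_of_eq hS.two e
  have hS2 : S * S = 0 := by
    refine sl_injective i ?_
    have h1 := congrArg (fun g : GL (Fin t → Fin k) F => (g : Matrix (Fin t → Fin k) (Fin t → Fin k) F)) hωω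
    simp only [Units.val_mul, Units.val_one, e] at h1
    rw [show (1 + sl i S) * (1 + sl i S) = 1 + (sl i S + sl i S) + sl i S * sl i S by noncomm_ring, dbl hS.two,
      add_zero, add_eq_left] at h1
    rw [← sl_mul, h1, sl_zero]
  have hS0 : S ≠ 0 := fun e0 => hω1 (Units.ext (by rw [e, e0, sl_zero, add_zero, Units.val_one]))
  have hSad : adjJ J S = S := by
    refine sl_injective (β := Fin t) i ?_
    rw [← hS.adG_sl, ← hnl, hS.nl_adG hω hωω]
  have hcom : Commute (y : Matrix (Fin t → Fin k) (Fin t → Fin k) F) (sl i S) := by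
    have h1 := congrArg (fun g : GL (Fin t → Fin k) F => (g : Matrix (Fin t → Fin k) (Fin t → Fin k) F)) h.eq
    simp only [Units.val_mul, e, mul_add, add_mul, one_mul, mul_one, add_right_inj] at h1
    exact h1
  obtain ⟨a, ha, hca⟩ := hS.exists_fixed hR IH hi hy.mem hy.sq hy.cen hS2 hS0 hSad hcom
  exact hS.slot_of_commute hR IH hi hy ha hca

end Setting

end Cfsg.Agent.ClassicalMax.OWreath.Two
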